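import Groth.Agent.Pic13.K60.GenM

/-!
# From `MGood` to the statements about isomorphism classes of modules
-/

set_option autoImplicit false
universe u

open CategoryTheory CategoryTheory.Limits AlgebraicGeometry Opposite
open Groth.Agent.Ega3A.PicDiv Groth.Agent.Ega3A.PicEtSh Groth.Agent.Grpsch.PicGrp
open Groth.Agent.Ega3A.PicSheaf Groth.Agent.Ega3A.PicRep Groth.Agent.Picfga.PicBridge
open Groth.Agent Groth.Agent.Pic13 Groth.Agent.Pic13.H547 Groth.Agent.Pic13.H508.SqMT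
open K60.MGood

namespace K60.Bridge

theorem repPic_of_isRelPic {X S : Scheme.{u}} {f : X ⟶ S} {P : Over S}
    {ψ : ∀ T : Over S, PicF.Cl (PicF.XT f T) → (T ⟶ P)} (h : PicRel.IsRelPic f P ψ) :
    RepPic f P (fun T c => ψ T (ofPic c)) := by
  obtain ⟨h1, h2, h3⟩ := h
  refine ⟨?_, ?_, ?_⟩
  · intro T T' g c
    rw [← h1 T T' g (ofPic c) (isInvertibleCl_ofPic c)]
    exact congrArg (ψ T') (ofPic_pull _ c)
  · intro T g
    obtain ⟨ι, U, hU, h⟩ := h2 T g
    refine ⟨ofSmall U hU, fun i => ?_⟩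
    obtain ⟨c, hc, h⟩ := h i
    obtain ⟨d, rfl⟩ := exists_ofPic hc
    exact ⟨d, h⟩
  · intro T c c' h
    obtain ⟨ι, U, hU, h⟩ := h3 T (ofPic c) (ofPic c') (isInvertibleCl_ofPic c)
      (isInvertibleCl_ofPic c') h
    refine ⟨ofSmall U hU, fun i => ofPic_injective ?_⟩
    rw [ofPic_pull, ofPic_pull]
    exact h i

/-- Over a locally Noetherian base the induced morphism is locally of finite presentation. -/
theorem mGood_lfp {A B S : Scheme.{u}} [IsLocallyNoetherian S] {f' : A ⟶ S} {f : B ⟶ S} {q : A ⟶ B}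
    {h : q ≫ f = f'} {Q : MorphismProperty Scheme.{u}} (hM : MGood Q q h) :
    MGood (Q ⊓ @LocallyOfFinitePresentation) q h := by
  obtain ⟨P₁, P₁', φ₁, φ₁', h₁, h₁', r₁, hr₁, hQ⟩ := hM
  have l1 := h₁.lft
  have l2 := h₁'.lft
  have e1 : LocallyOfFiniteType (r₁.left ≫ P₁'.hom) := by rw [Over.w]; exact l1
  have e2 : LocallyOfFiniteType r₁.left := locallyOfFiniteType_of_comp r₁.left P₁'.hom
  have e3 : IsLocallyNoetherian P₁'.left := LocallyOfFiniteType.isLocallyNoetherian P₁'.hom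
  have e4 : LocallyOfFinitePresentation r₁.left := inferInstance
  exact ⟨P₁, P₁', φ₁, φ₁', h₁, h₁', r₁, hr₁, hQ, e4⟩

/-- **The bridge.** -/
theorem final {X Y S : Scheme.{u}} {p : X ⟶ S} {g : Y ⟶ S} {f : X ⟶ Y} {hf : f ≫ g = p}
    {Q : MorphismProperty Scheme.{u}} [Q.RespectsIso] {V : S.Opens}
    (hM : MGood Q (mT f hf (Over.mk V.ι)) (mT_snd f hf (Over.mk V.ι))) :
      PicRel.Representable (pullback.snd g V.ι) ∧ PicRel.Representable (pullback.snd p V.ι) ∧
      ∀ (PY PX : Over (V : Scheme.{u}))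
        (φY : ∀ T : Over (V : Scheme.{u}), PicF.Cl (PicF.XT (pullback.snd g V.ι) T) → (T ⟶ PY))
        (φX : ∀ T : Over (V : Scheme.{u}), PicF.Cl (PicF.XT (pullback.snd p V.ι) T) → (T ⟶ PX))
        (_ : PicRel.IsRelPic (pullback.snd g V.ι) PY φY) (_ : PicRel.IsRelPic (pullback.snd p V.ι) PX φX)
        (fT : ∀ T : Over (V : Scheme.{u}), PicF.XT (pullback.snd p V.ι) T ⟶ PicF.XT (pullback.snd g V.ι) T)
        (_ : ∀ T, fT T ≫ pullback.fst _ _ ≫ pullback.fst g V.ι = pullback.fst _ _ ≫ pullback.fst p V.ι ≫ f ∧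
          fT T ≫ pullback.snd _ _ = pullback.snd _ _)
        (m : PY ⟶ PX)
        (_ : ∀ (T : Over (V : Scheme.{u})) (c : PicF.Cl (PicF.XT (pullback.snd g V.ι) T)), PicF.IsInvertibleCl c →
          φX T (PicF.pullCl (fT T) c) = φY T c ≫ m),
        Q m.left := by
  refine ⟨?_, ?_, ?_⟩
  · obtain ⟨P, φ, hP⟩ := hM.left
    exact ⟨P, representedBy_of_repPic _ hP.rep⟩
  · obtain ⟨P, φ, hP⟩ := hM.right
    exact ⟨P, representedBy_of_repPic _ hP.rep⟩
  intro PY PX φY φX hY hX fT hfT m hm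
  refine hM.all (repPic_of_isRelPic hY) (repPic_of_isRelPic hX) ?_
  intro T c
  have e : fT T = mT (mT f hf (Over.mk V.ι)) (mT_snd f hf (Over.mk V.ι)) T := by
    obtain ⟨e1, e2⟩ := hfT T
    apply pullback.hom_ext
    · apply pullback.hom_ext
      · have e3 := mT_fst (mT f hf (Over.mk V.ι)) (mT_snd f hf (Over.mk V.ι)) T
        have e4 := mT_fst f hf (Over.mk V.ι)
        refine (Category.assoc _ _ _).trans (e1.trans ?_)
        refine Eq.trans ?_ (congrArg (fun z => z ≫ pullback.fst g V.ι) e3).symm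
        refine Eq.trans ?_ (Category.assoc _ _ _).symm
        exact congrArg (fun z => pullback.fst (pullback.snd p V.ι) T.hom ≫ z) e4.symm
      · have e3 := mT_snd (mT f hf (Over.mk V.ι)) (mT_snd f hf (Over.mk V.ι)) T
        rw [Category.assoc, Category.assoc, pullback.condition, ← Category.assoc, ← Category.assoc, e2]
        exact congrArg (fun z => z ≫ T.hom) e3.symm
    · rw [e2]
      exact (mT_snd (mT f hf (Over.mk V.ι)) (mT_snd f hf (Over.mk V.ι)) T).symm
  change φY T (ofPic c) ≫ m = φX T (ofPic (pw _ _ T c))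
  rw [← hm T (ofPic c) (isInvertibleCl_ofPic c), e, pw, ofPic_pull]

end K60.Bridge
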