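import Groth.Agent.Pic13.H964.FpqcLine
import Groth.Agent.Pic13.H602.Sim
import Groth.Agent.VarietyA.FinTriv

/-!
# Descent of invertible modules along finite flat surjective morphisms

* `exists_of_cocycle`: a descent datum with the cocycle condition is effective;
* `cl_eq_of_descent`: the descended module is unique.
-/

set_option autoImplicit false
set_option backward.isDefEq.respectTransparency false
universe u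

open CategoryTheory CategoryTheory.Limits AlgebraicGeometry TopologicalSpace

namespace K60.CocDesc

open Groth.Agent.Fdesc Groth.Agent.Fdesc.LocGen Groth.Agent.Picfga.LineFam Groth.Agent.Picfga.LineHom
  Groth.Agent.Picfga.LineDescent Groth.Agent.Pic13.H964.FpqcLine Groth.Agent.Pic13.H602.Rig

variable {X X' X'' X₃ : Scheme.{u}} {π : X' ⟶ X} {p₁ p₂ : X'' ⟶ X'} {q₁₂ q₂₃ q₁₃ : X₃ ⟶ X''}
  {L' : X'.Modules} {N : X''.Modules} {N₃ : X₃.Modules} {θ₁ : Fam p₁ L' N} {θ₂ : Fam p₂ L' N}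

/-- The transition function after a further pullback. -/
lemma comp_on_eq (w : p₁ ≫ π = p₂ ≫ π) {U : X.Opens} {e : Γ(L', π ⁻¹ᵁ U)} {v : Γ(X'', p₁ ⁻¹ᵁ π ⁻¹ᵁ U)}
    (hv : θ₁.map e = v • θ₂.on (le12 w U) e) {q : X₃ ⟶ X''} (F : Fam q N N₃) {O : X₃.Opens}
    (h : O ≤ q ⁻¹ᵁ p₁ ⁻¹ᵁ π ⁻¹ᵁ U) :
    (θ₁.comp F).on (G := q ≫ p₁) h e =
      fn q h v • (θ₂.comp F).on (G := q ≫ p₂) (U := π ⁻¹ᵁ U)
        (show O ≤ q ⁻¹ᵁ p₂ ⁻¹ᵁ π ⁻¹ᵁ U from h.trans (q.preimage_mono (le12 w U))) e := by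
  have h1 := Fam.comp_on θ₁ F (M := p₁ ⁻¹ᵁ π ⁻¹ᵁ U) (N := O) le_rfl h e
  have h2 := Fam.comp_on θ₂ F (M := p₁ ⁻¹ᵁ π ⁻¹ᵁ U) (N := O) (le12 w U) h e
  rw [Fam.on_le_rfl, hv, Fam.on_smul] at h1
  rw [h2]
  exact h1

/-- **Effectivity of descent data** along finite flat surjective morphisms. -/
theorem exists_of_cocycle (H : IsPullback p₁ p₂ π π) (H₃ : IsPullback (q₁₂ ≫ p₁) q₂₃ π (p₁ ≫ π))
    (h₁₂ : q₁₂ ≫ p₂ = q₂₃ ≫ p₁) (h₁₃ : q₁₃ ≫ p₁ = q₁₂ ≫ p₁) (h₁₃' : q₁₃ ≫ p₂ = q₂₃ ≫ p₂)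
    [IsFinite π] [Flat π] [Surjective π] (hL' : PicF.IsInvertible L')
    (F₁₂ : Fam q₁₂ N N₃) (F₂₃ : Fam q₂₃ N N₃) (F₁₃ : Fam q₁₃ N N₃)
    (c₁ : Sim (θ₁.comp F₁₂) (θ₁.comp F₁₃)) (c₂ : Sim (θ₂.comp F₁₂) (θ₁.comp F₂₃))
    (c₃ : Sim (θ₂.comp F₂₃) (θ₂.comp F₁₃)) :
    ∃ (M : X.Modules) (_ : PicF.IsInvertible M) (F : Fam π M L'), Sim (F.comp θ₁) (F.comp θ₂) := by
  choose W e hxW _ he using fun x : X =>
    Groth.Agent.VarietyA.FinTriv.exists_isGen_preimage π L' hL' x ⊤ trivial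
  choose v hvu hv using fun x : X => (θ₂.isGen_on (le12 H.w (W x)) (he x)).exists_unit (θ₁.gen (he x))
  obtain ⟨M, hM, F, hF⟩ : ∃ (M : X.Modules) (_ : PicF.IsInvertible M) (F : Fam π M L'),
      F.comp θ₁ = (F.comp θ₂).cast H.w.symm := by
    refine exists_descent (θ₁ := θ₁) (θ₂ := θ₂) H H₃ rfl h₁₂ h₁₃ h₁₃' W
      (top_le_iff.1 fun x _ => Opens.mem_iSup.2 ⟨x, hxW x⟩) e he v hv (fun x O h => ?_)
    have h23 : O ≤ q₂₃ ⁻¹ᵁ p₁ ⁻¹ᵁ π ⁻¹ᵁ W x := h.trans (le_of_eq (by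
          rw [← Scheme.Hom.comp_preimage, H₃.w, Scheme.Hom.comp_preimage, Scheme.Hom.comp_preimage]))
    have h13 : O ≤ q₁₃ ⁻¹ᵁ p₁ ⁻¹ᵁ π ⁻¹ᵁ W x := h.trans (le_of_eq (by rw [← h₁₃, Scheme.Hom.comp_preimage]))
    have e12 := comp_on_eq H.w (hv x) F₁₂ h
    have e23 := comp_on_eq H.w (hv x) F₂₃ h23
    have e13 := comp_on_eq H.w (hv x) F₁₃ h13
    have k1 := c₁.on_eq (N := O) h h13 (e x)
    have k2 := c₂.on_eq (N := O) (U := π ⁻¹ᵁ W x)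
      (show O ≤ q₁₂ ⁻¹ᵁ p₂ ⁻¹ᵁ π ⁻¹ᵁ W x from h.trans (q₁₂.preimage_mono (le12 H.w (W x)))) h23 (e x)
    have k3 := c₃.on_eq (N := O) (U := π ⁻¹ᵁ W x)
      (show O ≤ q₂₃ ⁻¹ᵁ p₂ ⁻¹ᵁ π ⁻¹ᵁ W x from h23.trans (q₂₃.preimage_mono (le12 H.w (W x))))
      (show O ≤ q₁₃ ⁻¹ᵁ p₂ ⁻¹ᵁ π ⁻¹ᵁ W x from h13.trans (q₁₃.preimage_mono (le12 H.w (W x)))) (e x)
    rw [k2, e23, k3, smul_smul] at e12
    rw [k1, e13] at e12
    exact (((θ₂.comp F₁₃).isGen_on _ (he x)).ext e12).symm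
  exact ⟨M, hM, F, ⟨H.w, by rw [hF]; exact Sim.eq ((Sim.cast_left _).trans (Sim.cast_left _))⟩⟩
/-- **Uniqueness of descent.** -/
theorem cl_eq_of_descent (H : IsPullback p₁ p₂ π π) [IsAffineHom π] [Flat π] [Surjective π]
    {M M' : X.Modules} (hM : PicF.IsInvertible M) (hM' : PicF.IsInvertible M') (F : Fam π M L') (F' : Fam π M' L')
    (hF : Sim (F.comp θ₁) (F.comp θ₂)) (hF' : Sim (F'.comp θ₁) (F'.comp θ₂)) : PicF.cl M = PicF.cl M' := by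
  obtain ⟨V, n, hV, hn⟩ := Fam.exists_gens hM
  have hFinv : ∀ i, Groth.Agent.Pic13.H964.FpqcLine.Inv H.w θ₁ θ₂ (F.map (n i)) := fun i => by
    rw [Groth.Agent.Pic13.H964.FpqcLine.Inv]
    have h2 := Fam.comp_on F θ₁ (M := π ⁻¹ᵁ V i) (N := p₁ ⁻¹ᵁ π ⁻¹ᵁ V i) le_rfl le_rfl (n i)
    have h3 := Fam.comp_on F θ₂ (M := π ⁻¹ᵁ V i) (N := p₁ ⁻¹ᵁ π ⁻¹ᵁ V i) le_rfl (le12 H.w _) (n i)
    have h4 : F.on (le_refl _) (n i) = F.map (n i) := Fam.on_le_rfl F _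
    rw [h4] at h2 h3
    rw [← Fam.on_le_rfl θ₁, ← h2, ← h3]
    exact hF.on_eq _ _ _
  have hs : F'.comp θ₁ = (F'.comp θ₂).cast H.w.symm := by
    obtain ⟨h, h'⟩ := hF'.symm
    exact h'.symm
  choose m hm hFm using fun i => exists_section H hM' F' hs (F.map (n i)) (F.gen (hn i)) (hFinv i)
  obtain ⟨ψ, -⟩ := exists_iso (L := M) (N := M') hV (e := n) hn (n := m) (trans_of_inf hn (fun i j => by
    obtain ⟨a, ha⟩ := exists_smul (hn j) (inf_le_right : V i ⊓ V j ≤ V j)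
        (LocGen.res M (inf_le_left : V i ⊓ V j ≤ V i) (n i))
    refine ⟨a, ha.symm, ?_⟩
    apply map_injective hM' F'
    rw [F'.res, hFm, F'.smul, F'.res, hFm, ← F.res inf_le_left, ← F.res inf_le_right, ← ha, F.smul])) hm
  exact cl_eq_iff.2 ⟨ψ⟩

end K60.CocDesc
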