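import Groth.Agent.Pic13.H602.Sim

/-!
# The cocycle defect of an isomorphism `p₁^* M ≅ p₂^* M`

`θ₁ : Fam p₁ M N`, `θ₂ : Fam p₂ M N` is an isomorphism between the two pullbacks of `M`. `Coc θ₁ θ₂ … w`: its cocycle
defect is the unit `w`.

* `exists_coc`, `Coc.pull`, `Coc.eq_one`.
-/

set_option autoImplicit false
set_option backward.isDefEq.respectTransparency false
universe u

open CategoryTheory CategoryTheory.Limits AlgebraicGeometry TopologicalSpace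

namespace K60.CocPull

open Groth.Agent.Fdesc Groth.Agent.Fdesc.LocGen Groth.Agent.Picfga.LineFam Groth.Agent.Picfga.LineHom
  Groth.Agent.Picfga.LineDescent Groth.Agent.Pic13.H602.Rig

section smulUnit

variable {Y Y' Y'' : Scheme.{u}} {G G₁ : Y' ⟶ Y} {G' : Y'' ⟶ Y'} {L : Y.Modules} {L' : Y'.Modules} {L'' : Y''.Modules}

lemma smulUnit_comp {w : Γ(Y', ⊤)} (hw : IsUnit w) (F : Fam G L L') (K : Fam G' L' L'') :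
    (Fam.smulUnit hw F).comp K = Fam.smulUnit (hw.map G'.appTop.hom) (F.comp K) := by
  refine Fam.ext' fun U s ↦ ?_
  rw [Fam.comp_map, Fam.smulUnit_map, Fam.smul, Fam.smulUnit_map, Fam.comp_map, app_ores]
  rfl

lemma comp_smulUnit {w : Γ(Y'', ⊤)} (hw : IsUnit w) (F : Fam G L L') (K : Fam G' L' L'') :
    F.comp (Fam.smulUnit hw K) = Fam.smulUnit hw (F.comp K) := rfl

lemma sim_smulUnit {w : Γ(Y', ⊤)} (hw : IsUnit w) {F : Fam G L L'} {F' : Fam G₁ L L'} (h : Sim F F') :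
    Sim (Fam.smulUnit hw F) (Fam.smulUnit hw F') := by
  obtain ⟨rfl, h⟩ := h
  rw [Fam.cast_rfl] at h
  subst h
  exact Sim.refl _

/-- The pulled back module. -/
lemma exists_pb (G : Y' ⟶ Y) (L : Y.Modules) (hL : PicF.IsInvertible L) :
    ∃ (L' : Y'.Modules) (_ : PicF.IsInvertible L'), Nonempty (Fam G L L') :=
  ⟨(Scheme.Modules.pullback G).obj L, isInvertible_pullback G hL, ⟨Fam.ofIso (Iso.refl _)⟩⟩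

end smulUnit

section coc

variable {X X₂ X₃ : Scheme.{u}} {p₁ p₂ : X₂ ⟶ X} {q₁₂ q₂₃ q₁₃ : X₃ ⟶ X₂} {M : X.Modules} {N : X₂.Modules}

/-- The cocycle defect of `(θ₁, θ₂)` is `w`. -/
def Coc (q₁₂ q₂₃ q₁₃ : X₃ ⟶ X₂) (θ₁ : Fam p₁ M N) (θ₂ : Fam p₂ M N) (w : Γ(X₃, ⊤)ˣ) : Prop :=
  ∃ (N₃ : X₃.Modules) (F₁₂ : Fam q₁₂ N N₃) (F₂₃ : Fam q₂₃ N N₃) (F₁₃ : Fam q₁₃ N N₃),
    Sim (θ₁.comp F₁₂) (θ₁.comp F₁₃) ∧ Sim (θ₂.comp F₁₂) (θ₁.comp F₂₃) ∧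
      Sim (θ₂.comp F₁₃) (Fam.smulUnit w.isUnit (θ₂.comp F₂₃))

variable {θ₁ : Fam p₁ M N} {θ₂ : Fam p₂ M N}

theorem exists_coc (h₁₂ : q₁₂ ≫ p₂ = q₂₃ ≫ p₁) (h₁₃ : q₁₃ ≫ p₁ = q₁₂ ≫ p₁) (h₁₃' : q₁₃ ≫ p₂ = q₂₃ ≫ p₂)
    (hM : PicF.IsInvertible M) : ∃ w : Γ(X₃, ⊤)ˣ, Coc q₁₂ q₂₃ q₁₃ θ₁ θ₂ w := by
  have hN : PicF.IsInvertible N := θ₁.isInvertible hM
  obtain ⟨N₃, hN₃, ⟨F₁₂⟩⟩ := exists_pb q₁₂ N hN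
  obtain ⟨F₂₃, h23⟩ := exists_fill_sim (G' := q₂₃) hM θ₁ (θ₂.comp F₁₂) h₁₂.symm
  obtain ⟨F₁₃, h13⟩ := exists_fill_sim (G' := q₁₃) hM θ₁ (θ₁.comp F₁₂) h₁₃
  obtain ⟨w, hw, h⟩ := Fam.exists_unit hM (θ₂.comp F₂₃) ((θ₂.comp F₁₃).cast h₁₃')
  refine ⟨hw.unit, N₃, F₁₂, F₂₃, F₁₃, h13.symm, h23.symm, ⟨h₁₃', h⟩⟩

/-- A datum with a descended module has trivial cocycle defect. -/
theorem Coc.eq_one {Y : Scheme.{u}} {f : X ⟶ Y} {L : Y.Modules} (hL : PicF.IsInvertible L) (hM : PicF.IsInvertible M)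
    (h₁₃' : q₁₃ ≫ p₂ = q₂₃ ≫ p₂)
    {F : Fam f L M} (hF : Sim (F.comp θ₁) (F.comp θ₂)) {w : Γ(X₃, ⊤)ˣ} (h : Coc q₁₂ q₂₃ q₁₃ θ₁ θ₂ w) : w = 1 := by
  obtain ⟨N₃, F₁₂, F₂₃, F₁₃, c₁, c₂, c₃⟩ := h
  have k1 : Sim (F.comp (θ₂.comp F₁₃)) (F.comp (θ₁.comp F₁₃)) := (hF.comp_left F₁₃).symm
  have k2 : Sim (F.comp (θ₁.comp F₁₃)) (F.comp (θ₁.comp F₁₂)) := c₁.symm.comp_right F
  have k3 : Sim (F.comp (θ₁.comp F₁₂)) (F.comp (θ₂.comp F₁₂)) := hF.comp_left F₁₂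
  have k4 : Sim (F.comp (θ₂.comp F₁₂)) (F.comp (θ₁.comp F₂₃)) := c₂.comp_right F
  have k5 : Sim (F.comp (θ₁.comp F₂₃)) (F.comp (θ₂.comp F₂₃)) := hF.comp_left F₂₃
  have k : Sim (θ₂.comp F₁₃) (θ₂.comp F₂₃) :=
    Sim.cancel hL F h₁₃' ((k1.trans (k2.trans (k3.trans (k4.trans k5)))))
  have e := (c₃.symm.trans k).eq
  apply Units.ext
  refine Fam.eq_of_smulUnit_eq hM (θ₂.comp F₂₃) w.isUnit isUnit_one ?_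
  rw [e, Fam.smulUnit_one]

variable {X' X₂' X₃' : Scheme.{u}} {p₁' p₂' : X₂' ⟶ X'} {q₁₂' q₂₃' q₁₃' : X₃' ⟶ X₂'} {M' : X'.Modules}
  {N' : X₂'.Modules} {θ₁' : Fam p₁' M' N'} {θ₂' : Fam p₂' M' N'} {u : X' ⟶ X} {u₂ : X₂' ⟶ X₂} {u₃ : X₃' ⟶ X₃}

lemma push {p : X₂ ⟶ X} {p' : X₂' ⟶ X'} {q : X₃ ⟶ X₂} {q' : X₃' ⟶ X₂'} {N₃ : X₃.Modules} {N₃' : X₃'.Modules}
    {θ : Fam p M N} {θ' : Fam p' M' N'} {μ : Fam u M M'} {ν : Fam u₂ N N'} {η : Fam u₃ N₃ N₃'} {F : Fam q N N₃}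
    {F' : Fam q' N' N₃'}
    (hθ : Sim (μ.comp θ') (θ.comp ν)) (hF : Sim (ν.comp F') (F.comp η)) :
    Sim (μ.comp (θ'.comp F')) ((θ.comp F).comp η) :=
  (hθ.comp_left F').trans (hF.comp_right θ)

/-- Base change of the cocycle defect. -/
theorem Coc.pull (h₁₂ : q₁₂' ≫ p₂' = q₂₃' ≫ p₁') (h₁₃ : q₁₃' ≫ p₁' = q₁₂' ≫ p₁') (h₁₃' : q₁₃' ≫ p₂' = q₂₃' ≫ p₂')
    (e₁₂ : q₁₂' ≫ u₂ = u₃ ≫ q₁₂) (e₂₃ : q₂₃' ≫ u₂ = u₃ ≫ q₂₃) (e₁₃ : q₁₃' ≫ u₂ = u₃ ≫ q₁₃)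
    (hM : PicF.IsInvertible M) (μ : Fam u M M') (ν : Fam u₂ N N') (h₁ : Sim (μ.comp θ₁') (θ₁.comp ν))
    (h₂ : Sim (μ.comp θ₂') (θ₂.comp ν)) {w : Γ(X₃, ⊤)ˣ} (h : Coc q₁₂ q₂₃ q₁₃ θ₁ θ₂ w) :
    Coc q₁₂' q₂₃' q₁₃' θ₁' θ₂' (Units.map (u₃.appTop.hom : Γ(X₃, ⊤) →* Γ(X₃', ⊤)) w) := by
  obtain ⟨N₃, F₁₂, F₂₃, F₁₃, c₁, c₂, c₃⟩ := h
  have hN : PicF.IsInvertible N := θ₁.isInvertible hM
  have hN₃ : PicF.IsInvertible N₃ := F₁₂.isInvertible hN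
  obtain ⟨N₃', hN₃', ⟨η⟩⟩ := exists_pb u₃ N₃ hN₃
  obtain ⟨F₁₂', f12⟩ := exists_fill_sim (G' := q₁₂') hN ν (F₁₂.comp η) e₁₂
  obtain ⟨F₂₃', f23⟩ := exists_fill_sim (G' := q₂₃') hN ν (F₂₃.comp η) e₂₃
  obtain ⟨F₁₃', f13⟩ := exists_fill_sim (G' := q₁₃') hN ν (F₁₃.comp η) e₁₃
  refine ⟨N₃', F₁₂', F₂₃', F₁₃', ?_, ?_, ?_⟩
  · exact Sim.cancel hM μ h₁₃.symm ((push h₁ f12).trans ((c₁.comp_left η).trans (push h₁ f13).symm))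
  · exact Sim.cancel hM μ h₁₂ ((push h₂ f12).trans ((c₂.comp_left η).trans (push h₁ f23).symm))
  · refine Sim.cancel hM μ h₁₃' ((push h₂ f13).trans ((c₃.comp_left η).trans ?_))
    rw [smulUnit_comp, comp_smulUnit]
    exact sim_smulUnit _ (push h₂ f23).symm

end coc

end K60.CocPull
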