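import Groth.Agent.Pic13.K60.CocDesc
import Groth.Agent.Pic13.K60.CocPull
import Groth.Agent.Pic13.H546.IsomAff
import Groth.Agent.Pic13.H508.SqEx
import Groth.Agent.Pic13.H602.NilQ

/-!
# The scheme of descent data

`f : X ⟶ Y` finite flat surjective over `S`, `c` the class of an invertible module on `X_T`: there is `D ⟶ T` affine
over which `c` descends to `Y_D`, universal up to non-uniqueness.
-/

set_option autoImplicit false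
universe u

open CategoryTheory CategoryTheory.Limits AlgebraicGeometry Opposite MonoidalCategory CartesianMonoidalCategory MonObj
open Groth.Agent.Ega3A.PicDiv Groth.Agent.Ega3A.PicEtSh Groth.Agent.Grpsch.PicGrp
open Groth.Agent.Ega3A.PicSheaf Groth.Agent.Ega3A.PicRep
open Groth.Agent.Pic13.H547 Groth.Agent.Pic13.H508.SqMT Groth.Agent.Pic13.H508.SqEx
open Groth.Agent.Picfga.LineFam Groth.Agent.Pic13.H602.Rig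
open Groth.Agent K60.CocDesc K60.CocPull

namespace K60.DescScheme

/-- The Čech nerve of `f : X ⟶ Y` over `S`, in degrees `≤ 2`. -/
structure Cech {X Y S : Scheme.{u}} {g : Y ⟶ S} {p : X ⟶ S} {f : X ⟶ Y} (hf : f ≫ g = p) where
  /-- `X ×_Y X` -/
  X₂ : Scheme.{u}
  /-- `X ×_Y X ×_Y X` -/
  X₃ : Scheme.{u}
  /-- structure map -/
  a₂ : X₂ ⟶ S
  /-- structure map -/
  a₃ : X₃ ⟶ S
  /-- projection -/
  p₁ : X₂ ⟶ X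
  /-- projection -/
  p₂ : X₂ ⟶ X
  /-- projection -/
  q₁₂ : X₃ ⟶ X₂
  /-- projection -/
  q₂₃ : X₃ ⟶ X₂
  /-- projection -/
  q₁₃ : X₃ ⟶ X₂
  w₁ : p₁ ≫ p = a₂
  w₂ : p₂ ≫ p = a₂
  v₁₂ : q₁₂ ≫ a₂ = a₃
  v₂₃ : q₂₃ ≫ a₂ = a₃
  v₁₃ : q₁₃ ≫ a₂ = a₃
  H₂ : IsPullback p₁ p₂ f f
  H₃ : IsPullback (q₁₂ ≫ p₁) q₂₃ f (p₁ ≫ f)
  h₁₂ : q₁₂ ≫ p₂ = q₂₃ ≫ p₁
  h₁₃ : q₁₃ ≫ p₁ = q₁₂ ≫ p₁
  h₁₃' : q₁₃ ≫ p₂ = q₂₃ ≫ p₂

variable {X Y S : Scheme.{u}} {g : Y ⟶ S} {p : X ⟶ S} {f : X ⟶ Y} {hf : f ≫ g = p}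

/-- A family presents the pullback of classes. -/
lemma pull_of_fam {Z Z' : Scheme.{u}} {G : Z' ⟶ Z} {L : Z.Modules} {L' : Z'.Modules} (hL : PicF.IsInvertible L)
    (hL' : PicF.IsInvertible L') (F : Fam G L L') : pull G (mk L hL) = mk L' hL' := by
  obtain ⟨ψ, -⟩ := Fam.exists_ofIso hL F
  rw [pull_mk]
  exact (mk_eq_iff _ _).2 ⟨ψ⟩

lemma fam_of_pull {Z Z' : Scheme.{u}} {G : Z' ⟶ Z} {L : Z.Modules} {L' : Z'.Modules} {hL : PicF.IsInvertible L}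
    {hL' : PicF.IsInvertible L'} (h : pull G (mk L hL) = mk L' hL') : Nonempty (Fam G L L') := by
  rw [pull_mk, mk_eq_iff] at h
  obtain ⟨ψ⟩ := h
  exact ⟨Fam.ofIso ψ⟩

namespace Cech

variable (C : Cech hf) (T : Over S)

lemma H₂T : IsPullback (mT C.p₁ C.w₁ T) (mT C.p₂ C.w₂ T) (mT f hf T) (mT f hf T) :=
  isPullback_T hf hf C.w₁ C.w₂ C.H₂ T

lemma H₃T : IsPullback (mT C.q₁₂ C.v₁₂ T ≫ mT C.p₁ C.w₁ T) (mT C.q₂₃ C.v₂₃ T) (mT f hf T)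
    (mT C.p₁ C.w₁ T ≫ mT f hf T) := by
  have e1 : (C.q₁₂ ≫ C.p₁) ≫ p = C.a₃ := by rw [Category.assoc, C.w₁, C.v₁₂]
  have e2 : (C.p₁ ≫ f) ≫ g = C.a₂ := by rw [Category.assoc, hf, C.w₁]
  rw [mT_comp C.p₁ C.w₁ C.q₁₂ C.v₁₂ e1, mT_comp f hf C.p₁ C.w₁ e2]
  exact isPullback_T hf e2 e1 C.v₂₃ C.H₃ T

lemma h₁₂T : mT C.q₁₂ C.v₁₂ T ≫ mT C.p₂ C.w₂ T = mT C.q₂₃ C.v₂₃ T ≫ mT C.p₁ C.w₁ T :=
  mT_comp_congr C.w₂ C.v₁₂ C.w₁ C.v₂₃ C.h₁₂ T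

lemma h₁₃T : mT C.q₁₃ C.v₁₃ T ≫ mT C.p₁ C.w₁ T = mT C.q₁₂ C.v₁₂ T ≫ mT C.p₁ C.w₁ T :=
  mT_comp_congr C.w₁ C.v₁₃ C.w₁ C.v₁₂ C.h₁₃ T

lemma h₁₃'T : mT C.q₁₃ C.v₁₃ T ≫ mT C.p₂ C.w₂ T = mT C.q₂₃ C.v₂₃ T ≫ mT C.p₂ C.w₂ T :=
  mT_comp_congr C.w₂ C.v₁₃ C.w₂ C.v₂₃ C.h₁₃' T

end Cech

/-- **The scheme of descent data.** -/
theorem exists_D (C : Cech hf) [IsProper C.a₂] [Flat C.a₂] [IsFinite f] [Flat f] [Surjective f]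
    (R₃ : UnitGrp.Rep C.a₃) (T : Over S) [IsLocallyNoetherian T.left] (c : Pic (PicF.XT p T)) :
    ∃ (D : Over S) (d : D ⟶ T) (n : Pic (PicF.XT g D)), IsAffineHom d.left ∧ pw f hf D n = pu p d c ∧
      ∀ (T' : Over S) (b : T' ⟶ T) (n' : Pic (PicF.XT g T')), pw f hf T' n' = pu p b c →
        ∃ h : T' ⟶ D, h ≫ d = b ∧ pu g h n = n' := by
  obtain ⟨M, hM, rfl⟩ := exists_mk c
  obtain ⟨P, hP, ⟨α₁⟩⟩ := exists_pb (mT C.p₁ C.w₁ T) M hM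
  obtain ⟨Q, hQ, ⟨α₂⟩⟩ := exists_pb (mT C.p₂ C.w₂ T) M hM
  obtain ⟨I, a, QI, κI, ψ, haff, hft, huniv⟩ := Pic13.H546.IsomAff.exists_isom C.a₂ T hP hQ
  obtain ⟨MI, hMI, ⟨xm⟩⟩ := exists_pb (PicF.XTmap p a) M hM
  obtain ⟨θ₁, hθ₁⟩ := exists_fill_sim (G' := mT C.p₁ C.w₁ I) hM xm (α₁.comp ψ) (mT_XTmap C.p₁ C.w₁ a)
  obtain ⟨θ₂, hθ₂⟩ := exists_fill_sim (G' := mT C.p₂ C.w₂ I) hM xm (α₂.comp κI) (mT_XTmap C.p₂ C.w₂ a)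
  have hQI : PicF.IsInvertible QI := κI.isInvertible hQ
  obtain ⟨w, hw⟩ := exists_coc (θ₁ := θ₁) (θ₂ := θ₂) (C.h₁₂T I) (C.h₁₃T I) (C.h₁₃'T I) hMI
  let ω : I ⟶ R₃.U := (R₃.e I).symm w
  have hω : R₃.e I ω = w := MulEquiv.apply_symm_apply _ _
  obtain ⟨D, κ, hκ, hc⟩ := Pic13.H602.NilQ.exists_kernel ω
  have hκ1 : κ ≫ ω = 1 := by
    rw [hκ.w, Hom.one_def]
  -- the descent datum over `D`
  obtain ⟨MD, hMD, ⟨δ⟩⟩ := exists_pb (PicF.XTmap p κ) MI hMI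
  obtain ⟨ND, hND, ⟨ν⟩⟩ := exists_pb (PicF.XTmap C.a₂ κ) QI hQI
  obtain ⟨τ₁, hτ₁⟩ := exists_fill_sim (G' := mT C.p₁ C.w₁ D) hMI δ (θ₁.comp ν) (mT_XTmap C.p₁ C.w₁ κ)
  obtain ⟨τ₂, hτ₂⟩ := exists_fill_sim (G' := mT C.p₂ C.w₂ D) hMI δ (θ₂.comp ν) (mT_XTmap C.p₂ C.w₂ κ)
  have hwD := hw.pull (C.h₁₂T D) (C.h₁₃T D) (C.h₁₃'T D) (mT_XTmap C.q₁₂ C.v₁₂ κ) (mT_XTmap C.q₂₃ C.v₂₃ κ)
    (mT_XTmap C.q₁₃ C.v₁₃ κ) hMI δ ν hτ₁ hτ₂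
  have hw1 : Units.map ((PicF.XTmap C.a₃ κ).appTop.hom : Γ(PicF.XT C.a₃ I, ⊤) →* Γ(PicF.XT C.a₃ D, ⊤)) w = 1 := by
    change Pic13.H547.SecSheaf.upu C.a₃ κ w = 1
    rw [← hω, ← R₃.nat, hκ1, map_one]
  rw [hw1] at hwD
  obtain ⟨N₃, F₁₂, F₂₃, F₁₃, c₁, c₂, c₃⟩ := hwD
  have c₃' : Sim (τ₂.comp F₂₃) (τ₂.comp F₁₃) := by
    have h1 : Fam.smulUnit (1 : Γ(PicF.XT C.a₃ D, ⊤)ˣ).isUnit (τ₂.comp F₂₃) = τ₂.comp F₂₃ :=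
      Fam.smulUnit_one _
    rw [h1] at c₃
    exact c₃.symm
  have i1 : IsFinite (mT f hf D) := MorphismProperty.of_isPullback (isPullback_mT f hf D).flip inferInstance
  have i2 : Flat (mT f hf D) := MorphismProperty.of_isPullback (isPullback_mT f hf D).flip inferInstance
  have i3 : Surjective (mT f hf D) := MorphismProperty.of_isPullback (isPullback_mT f hf D).flip inferInstance
  obtain ⟨NY, hNY, F, hF⟩ := exists_of_cocycle (C.H₂T D) (C.H₃T D) (C.h₁₂T D) (C.h₁₃T D) (C.h₁₃'T D) hMD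
    F₁₂ F₂₃ F₁₃ c₁ c₂ c₃'
  refine ⟨D, κ ≫ a, mk NY hNY, ?_, ?_, fun T' b n' hn' => ?_⟩
  · rw [Over.comp_left]
    infer_instance
  · have e1 : pw f hf D (mk NY hNY) = mk MD hMD := pull_of_fam hNY hMD F
    have e2 : pu p a (mk M hM) = mk MI hMI := pull_of_fam hM hMI xm
    have e3 : pu p κ (mk MI hMI) = mk MD hMD := pull_of_fam hMI hMD δ
    rw [e1, pu_comp, e2, e3]
  obtain ⟨N', hN', rfl⟩ := exists_mk n'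
  obtain ⟨M', hM', ⟨F'⟩⟩ := exists_pb (mT f hf T') N' hN'
  have hn1 : pull (PicF.XTmap p b) (mk M hM) = mk M' hM' := by
    have e1 : pw f hf T' (mk N' hN') = mk M' hM' := pull_of_fam hN' hM' F'
    rw [← e1, hn']
  obtain ⟨xm'⟩ := fam_of_pull hn1
  obtain ⟨Q', hQ', ⟨θ₁'⟩⟩ := exists_pb (mT C.p₁ C.w₁ T') M' hM'
  obtain ⟨θ₂', hθ'⟩ := exists_fill_sim (G' := mT C.p₂ C.w₂ T') hN' F' (F'.comp θ₁') (C.H₂T T').w.symm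
  obtain ⟨κ', hκ'⟩ := exists_fill_sim (G' := PicF.XTmap C.a₂ b) hM α₂ (xm'.comp θ₂') (mT_XTmap C.p₂ C.w₂ b).symm
  obtain ⟨φ', hφ'⟩ := exists_fill_sim (G' := PicF.XTmap C.a₂ b) hM α₁ (xm'.comp θ₁') (mT_XTmap C.p₁ C.w₁ b).symm
  obtain ⟨h, ⟨hh, lam, l₁, l₂⟩, -⟩ := huniv T' b Q' κ' φ'
  obtain ⟨xm₀, hxm₀⟩ := exists_fill_sim (G' := PicF.XTmap p h) hM xm xm' (by rw [← hh, XTmap_comp])
  have k₁ : Sim (xm₀.comp θ₁') (θ₁.comp lam) := by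
    refine Sim.cancel hM xm (mT_XTmap C.p₁ C.w₁ h) ?_
    exact (hxm₀.comp_left θ₁').trans (hφ'.symm.trans ((l₂.symm.comp_right α₁).trans (hθ₁.symm.comp_left lam)))
  have k₂ : Sim (xm₀.comp θ₂') (θ₂.comp lam) := by
    refine Sim.cancel hM xm (mT_XTmap C.p₂ C.w₂ h) ?_
    exact (hxm₀.comp_left θ₂').trans (hκ'.symm.trans ((l₁.symm.comp_right α₂).trans (hθ₂.symm.comp_left lam)))
  have hw' := hw.pull (C.h₁₂T T') (C.h₁₃T T') (C.h₁₃'T T') (mT_XTmap C.q₁₂ C.v₁₂ h) (mT_XTmap C.q₂₃ C.v₂₃ h)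
    (mT_XTmap C.q₁₃ C.v₁₃ h) hMI xm₀ lam k₁ k₂
  have hw2 := hw'.eq_one hN' hM' (C.h₁₃'T T') hθ'.symm
  have hh1 : h ≫ ω = 1 := by
    apply (R₃.e T').injective
    rw [R₃.nat, hω, map_one]
    exact hw2
  have hh2 : h ≫ ω = toUnit _ ≫ η[R₃.U] := by rw [hh1, Hom.one_def]
  let k : T' ⟶ D := hκ.lift h (toUnit _) hh2
  have hk : k ≫ κ = h := hκ.lift_fst _ _ _
  refine ⟨k, by rw [← Category.assoc, hk, hh], ?_⟩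
  obtain ⟨NY', hNY', ⟨β⟩⟩ := exists_pb (PicF.XTmap g k) NY hNY
  obtain ⟨xmD, hxmD⟩ := exists_fill_sim (G' := PicF.XTmap p k) hMI δ xm₀ (by rw [← hk, XTmap_comp])
  obtain ⟨lamD, hlamD⟩ := exists_fill_sim (G' := PicF.XTmap C.a₂ k) hQI ν lam (by rw [← hk, XTmap_comp])
  have m₁ : Sim (xmD.comp θ₁') (τ₁.comp lamD) := by
    refine Sim.cancel hMI δ (mT_XTmap C.p₁ C.w₁ k) ?_
    exact (hxmD.comp_left θ₁').trans (k₁.trans ((hlamD.symm.comp_right θ₁).trans (hτ₁.symm.comp_left lamD)))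
  have m₂ : Sim (xmD.comp θ₂') (τ₂.comp lamD) := by
    refine Sim.cancel hMI δ (mT_XTmap C.p₂ C.w₂ k) ?_
    exact (hxmD.comp_left θ₂').trans (k₂.trans ((hlamD.symm.comp_right θ₂).trans (hτ₂.symm.comp_left lamD)))
  obtain ⟨F'', hF''⟩ := exists_fill_sim (G' := mT f hf T') hNY β (F.comp xmD) (mT_XTmap f hf k)
  have hF2 : Sim (F''.comp θ₁') (F''.comp θ₂') := by
    refine Sim.cancel hNY β (C.H₂T T').w ?_
    exact (hF''.comp_left θ₁').trans ((m₁.comp_right F).trans ((hF.comp_left lamD).trans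
      ((m₂.symm.comp_right F).trans (hF''.symm.comp_left θ₂'))))
  have i1' : IsAffineHom (mT f hf T') := MorphismProperty.of_isPullback (isPullback_mT f hf T').flip inferInstance
  have i2' : Flat (mT f hf T') := MorphismProperty.of_isPullback (isPullback_mT f hf T').flip inferInstance
  have i3' : Surjective (mT f hf T') := MorphismProperty.of_isPullback (isPullback_mT f hf T').flip inferInstance
  have e := cl_eq_of_descent (C.H₂T T') hNY' hN' F'' F' hF2 hθ'.symm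
  have e1 : pu g k (mk NY hNY) = mk NY' hNY' := pull_of_fam hNY hNY' β
  rw [e1, mk_eq_iff]
  exact Picfga.LineDescent.cl_eq_iff.1 e

end K60.DescScheme
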