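import Groth.Agent.Pic13.K60.MGood
import Groth.Agent.Pic13.H964.Defs

/-!
# Morphisms of Picard schemes over a nonempty open of the base

* `GenM Q q h`: `MGood Q` holds for the base change of `q` to a nonempty open of the base;
* `MGood.trans`, `MGood.over`, `MGood.bcOver`, `GenM.exists_le`, `GenM.of_open`.
-/

set_option autoImplicit false
universe w u

open CategoryTheory CategoryTheory.Limits AlgebraicGeometry Opposite MonoidalCategory CartesianMonoidalCategory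
open Groth.Agent.Ega3A.PicDiv Groth.Agent.Ega3A.PicEtSh Groth.Agent.Grpsch.PicGrp
open Groth.Agent.Ega3A.PicSheaf Groth.Agent.Ega3A.PicRep Groth.Agent.Picfga.OverRep
open Groth.Agent.Pic13.H547 Groth.Agent.Pic13.H508.SqMT

namespace K60.MGood

variable {Q : MorphismProperty Scheme.{u}}

section trans

variable {A B S A₁ B₁ T₁ A₂ B₂ T₂ : Scheme.{u}} {f' : A ⟶ S} {f : B ⟶ S} {q : A ⟶ B} {h : q ≫ f = f'}
  {f₁' : A₁ ⟶ T₁} {f₁ : B₁ ⟶ T₁} {q₁ : A₁ ⟶ B₁} {h₁ : q₁ ≫ f₁ = f₁'} {vA₁ : A₁ ⟶ A} {vB₁ : B₁ ⟶ B} {t₁ : T₁ ⟶ S}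
  {f₂' : A₂ ⟶ T₂} {f₂ : B₂ ⟶ T₂} {q₂ : A₂ ⟶ B₂} {h₂ : q₂ ≫ f₂ = f₂'} {vA₂ : A₂ ⟶ A} {vB₂ : B₂ ⟶ B} {t₂ : T₂ ⟶ S}

/-- The comparison square of two base changes. -/
theorem isPullback_lift (H₁ : IsPullback vB₁ f₁ f t₁) (H₂ : IsPullback vB₂ f₂ f t₂) (a : T₂ ⟶ T₁)
    (ha : a ≫ t₁ = t₂) : ∃ v : B₂ ⟶ B₁, IsPullback v f₂ f₁ a ∧ v ≫ vB₁ = vB₂ := by
  have hw : vB₂ ≫ f = (f₂ ≫ a) ≫ t₁ := by rw [Category.assoc, ha, H₂.w]
  refine ⟨H₁.lift vB₂ (f₂ ≫ a) hw, ?_, H₁.lift_fst _ _ _⟩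
  refine IsPullback.of_right (t := H₁) ?_ (H₁.lift_snd _ _ _)
  rw [H₁.lift_fst, ha]
  exact H₂

theorem RGood.trans (H₁ : IsPullback vB₁ f₁ f t₁) (H₂ : IsPullback vB₂ f₂ f t₂) (a : T₂ ⟶ T₁)
    (ha : a ≫ t₁ = t₂) (hM : RGood f₁) : RGood f₂ := by
  obtain ⟨v, hv, -⟩ := isPullback_lift H₁ H₂ a ha
  exact hM.of_isPullback hv

/-- Transitivity of base change for `MGood`. -/
theorem MGood.trans [Q.IsStableUnderBaseChange] (hM : MGood Q q₁ h₁)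
    (H₁' : IsPullback vA₁ f₁' f' t₁) (H₁ : IsPullback vB₁ f₁ f t₁) (hq₁ : q₁ ≫ vB₁ = vA₁ ≫ q)
    (H₂' : IsPullback vA₂ f₂' f' t₂) (H₂ : IsPullback vB₂ f₂ f t₂) (hq₂ : q₂ ≫ vB₂ = vA₂ ≫ q)
    (a : T₂ ⟶ T₁) (ha : a ≫ t₁ = t₂) : MGood Q q₂ h₂ := by
  obtain ⟨v, hv, hv'⟩ := isPullback_lift H₁ H₂ a ha
  obtain ⟨u, hu, hu'⟩ := isPullback_lift H₁' H₂' a ha
  refine hM.of_isPullback hu hv (H₁.hom_ext ?_ ?_)
  · rw [Category.assoc, hv', hq₂, Category.assoc, hq₁, ← Category.assoc, hu']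
  · rw [Category.assoc, Category.assoc, hv.w, h₁, ← Category.assoc, h₂, hu.w]

end trans

section over

variable {A B S : Scheme.{u}} {f' : A ⟶ S} {f : B ⟶ S} {q : A ⟶ B} {h : q ≫ f = f'}

theorem MGood.over [Q.IsStableUnderBaseChange] (hM : MGood Q q h) (T : Over S) :
    MGood Q (mT q h T) (mT_snd q h T) :=
  hM.of_isPullback (IsPullback.of_hasPullback f' T.hom) (IsPullback.of_hasPullback f T.hom) (mT_fst q h T)

theorem MGood.bcOver [Q.IsStableUnderBaseChange] {T T' : Over S} (g : T' ⟶ T)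
    (hM : MGood Q (mT q h T) (mT_snd q h T)) : MGood Q (mT q h T') (mT_snd q h T') :=
  hM.trans (IsPullback.of_hasPullback f' T.hom) (IsPullback.of_hasPullback f T.hom) (mT_fst q h T)
    (IsPullback.of_hasPullback f' T'.hom) (IsPullback.of_hasPullback f T'.hom) (mT_fst q h T') g.left (Over.w g)

theorem RGood.bcOver {T T' : Over S} (g : T' ⟶ T) (hM : RGood (pullback.snd f T.hom)) :
    RGood (pullback.snd f T'.hom) :=
  hM.trans (IsPullback.of_hasPullback f T.hom) (IsPullback.of_hasPullback f T'.hom) g.left (Over.w g)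

variable (Q q h)

/-- `MGood` over a nonempty open of the base. -/
def GenM : Prop := ∃ V : S.Opens, (V : Set S).Nonempty ∧
  MGood Q (mT q h (Over.mk V.ι)) (mT_snd q h (Over.mk V.ι))

/-- `RGood` over a nonempty open of the base. -/
def GenR (f : B ⟶ S) : Prop := ∃ V : S.Opens, (V : Set S).Nonempty ∧ RGood (pullback.snd f V.ι)

variable {Q q h}

/-- The inclusion of opens over `S`. -/
noncomputable abbrev leHom {V W : S.Opens} (hW : W ≤ V) : Over.mk W.ι ⟶ Over.mk V.ι :=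
  Over.homMk (S.homOfLE hW) (S.homOfLE_ι hW)

theorem GenM.exists_le [Q.IsStableUnderBaseChange] (hM : GenM Q q h) : ∃ V : S.Opens, (V : Set S).Nonempty ∧
    ∀ W : S.Opens, W ≤ V → MGood Q (mT q h (Over.mk W.ι)) (mT_snd q h (Over.mk W.ι)) := by
  obtain ⟨V, hV, hM⟩ := hM
  exact ⟨V, hV, fun W hW => hM.bcOver (leHom hW)⟩

theorem GenR.exists_le (hM : GenR f) : ∃ V : S.Opens, (V : Set S).Nonempty ∧
    ∀ W : S.Opens, W ≤ V → RGood (pullback.snd f W.ι) := by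
  obtain ⟨V, hV, hM⟩ := hM
  exact ⟨V, hV, fun W hW => RGood.bcOver (leHom hW) hM⟩

theorem GenM.mono (hM : GenM Q q h) {Q' : MorphismProperty Scheme.{u}} (hQ : Q ≤ Q') : GenM Q' q h := by
  obtain ⟨V, hV, hM⟩ := hM
  exact ⟨V, hV, hM.mono hQ⟩

theorem MGood.genM [Q.IsStableUnderBaseChange] [Nonempty S] (hM : MGood Q q h) : GenM Q q h :=
  ⟨⊤, ⟨Classical.arbitrary S, trivial⟩, hM.over _⟩

variable {A₁ B₁ T₁ : Scheme.{u}} {f₁' : A₁ ⟶ T₁} {f₁ : B₁ ⟶ T₁} {q₁ : A₁ ⟶ B₁} {h₁ : q₁ ≫ f₁ = f₁'}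
  {vA₁ : A₁ ⟶ A} {vB₁ : B₁ ⟶ B} {t₁ : T₁ ⟶ S}

theorem GenM.of_mGood [Q.IsStableUnderBaseChange] [IsOpenImmersion t₁] [Nonempty T₁] (hM : MGood Q q₁ h₁)
    (H₁' : IsPullback vA₁ f₁' f' t₁) (H₁ : IsPullback vB₁ f₁ f t₁) (hq₁ : q₁ ≫ vB₁ = vA₁ ≫ q) : GenM Q q h := by
  refine ⟨t₁.opensRange, ⟨t₁ (Classical.arbitrary T₁), ⟨_, rfl⟩⟩, ?_⟩
  refine hM.trans H₁' H₁ hq₁ (IsPullback.of_hasPullback f' _) (IsPullback.of_hasPullback f _) (mT_fst q h _)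
    t₁.isoOpensRange.inv ?_
  exact Scheme.Hom.isoOpensRange_inv_comp t₁

theorem GenR.of_rGood [IsOpenImmersion t₁] [Nonempty T₁] (hM : RGood f₁)
    (H₁ : IsPullback vB₁ f₁ f t₁) : GenR f := by
  refine ⟨t₁.opensRange, ⟨t₁ (Classical.arbitrary T₁), ⟨_, rfl⟩⟩, ?_⟩
  exact RGood.trans H₁ (IsPullback.of_hasPullback f _) t₁.isoOpensRange.inv
    (Scheme.Hom.isoOpensRange_inv_comp t₁) hM

/-- `GenM` over an open of the base. -/
theorem GenM.of_open [Q.IsStableUnderBaseChange] [IsOpenImmersion t₁] (hM : GenM Q q₁ h₁)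
    (H₁' : IsPullback vA₁ f₁' f' t₁) (H₁ : IsPullback vB₁ f₁ f t₁) (hq₁ : q₁ ≫ vB₁ = vA₁ ≫ q) : GenM Q q h := by
  obtain ⟨V, ⟨x, hx⟩, hM⟩ := hM
  have : Nonempty (Over.mk V.ι : Over T₁).left := ⟨⟨x, hx⟩⟩
  have i1 : IsOpenImmersion (Over.mk V.ι : Over T₁).hom := inferInstanceAs (IsOpenImmersion V.ι)
  refine GenM.of_mGood (t₁ := (Over.mk V.ι : Over T₁).hom ≫ t₁) hM
    ((IsPullback.of_hasPullback f₁' _).paste_horiz H₁') ((IsPullback.of_hasPullback f₁ _).paste_horiz H₁) ?_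
  rw [← Category.assoc, mT_fst, Category.assoc, hq₁, Category.assoc]

theorem GenR.of_open [IsOpenImmersion t₁] (hM : GenR f₁) (H₁ : IsPullback vB₁ f₁ f t₁) : GenR f := by
  obtain ⟨V, ⟨x, hx⟩, hM⟩ := hM
  have : Nonempty V.toScheme := ⟨⟨x, hx⟩⟩
  exact GenR.of_rGood (t₁ := V.ι ≫ t₁) hM ((IsPullback.of_hasPullback f₁ _).paste_horiz H₁)

/-- Restriction of `GenM` to a nonempty open of the base. -/
theorem GenM.restrict [Q.IsStableUnderBaseChange] [IrreducibleSpace S] [IsOpenImmersion t₁] [Nonempty T₁]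
    (hM : GenM Q q h) (H₁' : IsPullback vA₁ f₁' f' t₁) (H₁ : IsPullback vB₁ f₁ f t₁)
    (hq₁ : q₁ ≫ vB₁ = vA₁ ≫ q) : GenM Q q₁ h₁ := by
  obtain ⟨V, hV, hM⟩ := hM
  have hne : ((t₁.opensRange ⊓ V : S.Opens) : Set S).Nonempty :=
    nonempty_preirreducible_inter t₁.opensRange.isOpen V.isOpen
      ⟨t₁ (Classical.arbitrary T₁), ⟨_, rfl⟩⟩ hV
  obtain ⟨_, ⟨x, rfl⟩, hx⟩ := hne
  refine ⟨t₁ ⁻¹ᵁ V, ⟨x, hx⟩, ?_⟩
  refine hM.trans (IsPullback.of_hasPullback f' _) (IsPullback.of_hasPullback f _) (mT_fst q h _)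
    ((IsPullback.of_hasPullback f₁' _).paste_horiz H₁') ((IsPullback.of_hasPullback f₁ _).paste_horiz H₁) ?_
    (t₁ ∣_ V) (morphismRestrict_ι t₁ V)
  rw [← Category.assoc, mT_fst, Category.assoc, hq₁, Category.assoc]

end over

section comp

variable {A B C S : Scheme.{u}} [IrreducibleSpace S] {f'' : C ⟶ S} {f' : A ⟶ S} {f : B ⟶ S} {q : A ⟶ B}
  {h : q ≫ f = f'} {p : C ⟶ A} {h' : p ≫ f' = f''} {s : C ⟶ B} {h'' : s ≫ f = f''} (w : p ≫ q = s)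

theorem exists_inter {V W : S.Opens} (hV : (V : Set S).Nonempty) (hW : (W : Set S).Nonempty) :
    ((V ⊓ W : S.Opens) : Set S).Nonempty :=
  nonempty_preirreducible_inter V.isOpen W.isOpen hV hW

include w in
theorem GenM.comp [Q.IsStableUnderComposition] [Q.IsStableUnderBaseChange] (h₁ : GenM Q q h) (h₂ : GenM Q p h') :
    GenM Q s h'' := by
  have : Q.RespectsIso := MorphismProperty.IsStableUnderBaseChange.respectsIso
  obtain ⟨V, hV, h₁⟩ := h₁.exists_le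
  obtain ⟨W, hW, h₂⟩ := h₂.exists_le
  refine ⟨V ⊓ W, exists_inter hV hW, ?_⟩
  refine MGood.comp ?_ (h₁ _ inf_le_left) (h₂ _ inf_le_right)
  subst w
  exact mT_comp q h p h' h'' _

include w in
theorem GenM.cancel {Q' : MorphismProperty Scheme.{u}} [Q.HasOfPostcompProperty Q'] [Q.IsStableUnderBaseChange]
    (h₁ : GenM Q s h'') (h₂ : GenR f') (h' : p ≫ f' = f'')
    (hQ' : ∀ {X Y : Scheme.{u}} {V : S.Opens} (t : X ⟶ Y) (y : Y ⟶ V.toScheme), IsSeparated (t ≫ y) →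
      LocallyOfFiniteType (t ≫ y) → Q' t) :
    GenM Q q h := by
  have : Q.RespectsIso := MorphismProperty.IsStableUnderBaseChange.respectsIso
  obtain ⟨V, hV, h₁⟩ := h₁.exists_le
  obtain ⟨W, hW, h₂⟩ := h₂.exists_le
  refine ⟨V ⊓ W, exists_inter hV hW, ?_⟩
  refine MGood.cancel (p := mT p h' _) (s := mT s h'' _) ?_ (Q' := Q') (h₁ _ inf_le_left) (h₂ _ inf_le_right)
    (fun t y => hQ' t y)
  subst w
  exact mT_comp q h p h' h'' _

end comp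

section good

open Groth.Agent.Pic13.H964.Defs

theorem RGood.of_good {B S : Scheme.{u}} {f : B ⟶ S} (h : Good f) : RGood f := by
  obtain ⟨P, hP, h1, h2, -⟩ := h
  obtain ⟨φ, hφ⟩ := exists_repPic f hP
  exact ⟨P, φ, hφ, h1, h2⟩

theorem GenR.of_genGood {B S : Scheme.{u}} {f : B ⟶ S} (h : GenGood f) : GenR f := by
  obtain ⟨V, hV, h⟩ := h
  exact ⟨V, hV, RGood.of_good h⟩

end good

end K60.MGood
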