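import Groth.Agent.Pic13.K60.DescScheme
import Groth.Agent.Pic13.K60.GenM
import Groth.Agent.Sga3B.RepDescent9
import Groth.Agent.Desc.QAffDesc

/-!
# Quasi-compactness of the pullback of invertible modules along finite flat surjective morphisms
-/

set_option autoImplicit false
universe u

open CategoryTheory CategoryTheory.Limits AlgebraicGeometry Opposite MonoidalCategory CartesianMonoidalCategory MonObj
open Groth.Agent.Ega3A.PicDiv Groth.Agent.Ega3A.PicEtSh Groth.Agent.Grpsch.PicGrp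
open Groth.Agent.Ega3A.PicSheaf Groth.Agent.Ega3A.PicRep
open Groth.Agent.Pic13.H547 Groth.Agent.Pic13.H508.SqMT Groth.Agent.Pic13.H508.SqEx
open Groth.Agent K60.DescScheme K60.MGood

namespace K60.FlfQC

variable {X Y S : Scheme.{u}} {g : Y ⟶ S} {p : X ⟶ S} {f : X ⟶ Y} {hf : f ≫ g = p}

/-- **Quasi-compactness** of `Pic_Y ⟶ Pic_X` for `X ⟶ Y` finite flat surjective. -/
theorem mGood_flf [IsLocallyNoetherian S] (C : Cech hf) [IsProper C.a₂] [Flat C.a₂]
    [IsFinite f] [Flat f] [Surjective f] (R₃ : UnitGrp.Rep C.a₃) (hY : RGood g) (hX : RGood p) :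
    MGood @QuasiCompact f hf := by
  refine MGood.of_forall hY hX fun P P' φ φ' hP hP' r hr => ?_
  have := Desc.QAffDesc.quasiCompact_descendsAlong.{u}
  apply Sga3B.RepDescent.of_etale_cover (P := @QuasiCompact)
  intro κ
  obtain ⟨𝒰, h𝒰⟩ := hP'.rep.surj (𝟙 P')
  obtain ⟨i, v, hv⟩ := 𝒰.covers κ
  obtain ⟨c₀, hc₀⟩ := h𝒰 i
  rw [Category.comp_id] at hc₀
  obtain ⟨B, hB, hvB, -⟩ := exists_isAffineOpen_mem_and_subset (X := (𝒰.V i).left) (x := v) (U := ⊤) trivial
  let T : Over S := Over.mk (B.ι ≫ (𝒰.V i).hom)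
  let m : T ⟶ 𝒰.V i := Over.homMk B.ι rfl
  have hT : IsAffine T.left := hB
  have ei := 𝒰.isEtale i
  have hj : Etale (m ≫ 𝒰.j i).left := by
    change Etale (B.ι ≫ (𝒰.j i).left)
    infer_instance
  have hc : φ' T (pu p m c₀) = m ≫ 𝒰.j i := by rw [hP'.rep.nat, hc₀]
  obtain ⟨j, hj0⟩ : ∃ j : T ⟶ P', j = m ≫ 𝒰.j i := ⟨_, rfl⟩
  rw [← hj0] at hj hc
  generalize pu p m c₀ = c at hc
  refine ⟨T.left, j.left, hj, ⟨⟨v, hvB⟩, ?_⟩, ?_⟩
  · rw [hj0]
    change (B.ι ≫ (𝒰.j i).left) ⟨v, hvB⟩ = κ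
    rw [Scheme.Hom.comp_apply]
    exact hv
  have l1 := hP'.lft
  have l2 : LocallyOfFiniteType T.hom := by
    rw [← Over.w j]
    infer_instance
  have l3 : IsLocallyNoetherian T.left := LocallyOfFiniteType.isLocallyNoetherian T.hom
  obtain ⟨D, d, n, hd, hn, huniv⟩ := exists_D C R₃ T c
  have sq : IsPullback (pullback.fst r j).left (pullback.snd r j).left r.left j.left :=
    (IsPullback.of_hasPullback r j).map (Over.forget S)
  have hcomp : φ D n ≫ r = d ≫ j := by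
    rw [hr, hn, hP'.rep.nat, hc]
  let s : D ⟶ pullback r j := pullback.lift (φ D n) d hcomp
  have hs : Surjective s.left := by
    constructor
    intro z
    obtain ⟨𝒱, h𝒱⟩ := hP.rep.surj (pullback.fst r j)
    obtain ⟨k, y, hy⟩ := 𝒱.covers z
    obtain ⟨n', hn'⟩ := h𝒱 k
    have h1 : φ' (𝒱.V k) (pw f hf _ n') = φ' (𝒱.V k) (pu p (𝒱.j k ≫ pullback.snd r j) c) := by
      rw [← hr, hn', hP'.rep.nat, hc, Category.assoc, Category.assoc, pullback.condition]
    obtain ⟨𝒲, h𝒲⟩ := hP'.rep.inj h1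
    obtain ⟨l, x, hx⟩ := 𝒲.covers y
    obtain ⟨h, hh, hh'⟩ := huniv (𝒲.V l) (𝒲.j l ≫ 𝒱.j k ≫ pullback.snd r j) (pu g (𝒲.j l) n') (by
      rw [pw_pu, h𝒲, ← pu_comp])
    have e : h ≫ s = 𝒲.j l ≫ 𝒱.j k := by
      apply pullback.hom_ext
      · rw [Category.assoc, pullback.lift_fst, ← hP.rep.nat, hh', hP.rep.nat, hn', Category.assoc]
      · rw [Category.assoc, pullback.lift_snd, hh, Category.assoc]
    refine ⟨h.left x, ?_⟩
    rw [← Scheme.Hom.comp_apply, ← Over.comp_left, e, Over.comp_left, Scheme.Hom.comp_apply, hx, hy]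
  have hDa : IsAffine D.left := isAffine_of_isAffineHom d.left
  have hZ : CompactSpace (pullback r j).left := Desc.QAffDesc.compactSpace_of_surjective s.left
  have hq : QuasiCompact (pullback.snd r j).left :=
    (HasAffineProperty.iff_of_isAffine (P := @QuasiCompact)).mpr hZ
  rw [← sq.isoPullback_inv_snd]
  infer_instance

end K60.FlfQC
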