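import Groth.Agent.Pic13.K60.FlfQC
import Groth.Agent.Pic13.H943.ExistsCF

/-!
# Quasi-compactness of the pullback along finite flat surjective morphisms, over an open of the base
-/

set_option autoImplicit false
universe u

open CategoryTheory CategoryTheory.Limits AlgebraicGeometry Opposite
open Groth.Agent.Ega3A.PicDiv Groth.Agent.Ega3A.PicEtSh Groth.Agent.Grpsch.PicGrp
open Groth.Agent.Ega3A.PicSheaf Groth.Agent.Ega3A.PicRep
open Groth.Agent.Pic13.H547 Groth.Agent.Pic13.H508.SqMT Groth.Agent.Pic13.H508.SqEx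
open Groth.Agent K60.DescScheme K60.MGood

namespace K60.FlfQC

variable {X Y S : Scheme.{u}} {g : Y ⟶ S} {p : X ⟶ S} {f : X ⟶ Y}

/-- Base change of the Čech nerve. -/
noncomputable def cechBc {hf : f ≫ g = p} (C : Cech hf) (T : Over S) :
    Cech (g := pullback.snd g T.hom) (p := pullback.snd p T.hom) (f := mT f hf T) (mT_snd f hf T) where
  X₂ := PicF.XT C.a₂ T
  X₃ := PicF.XT C.a₃ T
  a₂ := pullback.snd C.a₂ T.hom
  a₃ := pullback.snd C.a₃ T.hom
  p₁ := mT C.p₁ C.w₁ T
  p₂ := mT C.p₂ C.w₂ T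
  q₁₂ := mT C.q₁₂ C.v₁₂ T
  q₂₃ := mT C.q₂₃ C.v₂₃ T
  q₁₃ := mT C.q₁₃ C.v₁₃ T
  w₁ := mT_snd _ _ _
  w₂ := mT_snd _ _ _
  v₁₂ := mT_snd _ _ _
  v₂₃ := mT_snd _ _ _
  v₁₃ := mT_snd _ _ _
  H₂ := C.H₂T T
  H₃ := C.H₃T T
  h₁₂ := C.h₁₂T T
  h₁₃ := C.h₁₃T T
  h₁₃' := C.h₁₃'T T

/-- The Čech nerve of `f`. -/
noncomputable def cech (hf : f ≫ g = p) : Cech hf where
  X₂ := pullback f f
  X₃ := pullback f (pullback.fst f f ≫ f)
  a₂ := pullback.fst f f ≫ p
  a₃ := pullback.fst f (pullback.fst f f ≫ f) ≫ p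
  p₁ := pullback.fst f f
  p₂ := pullback.snd f f
  q₁₂ := pullback.lift (pullback.fst f (pullback.fst f f ≫ f))
    (pullback.snd f (pullback.fst f f ≫ f) ≫ pullback.fst f f) (by
      rw [Category.assoc]
      exact pullback.condition)
  q₂₃ := pullback.snd f (pullback.fst f f ≫ f)
  q₁₃ := pullback.lift (pullback.fst f (pullback.fst f f ≫ f))
    (pullback.snd f (pullback.fst f f ≫ f) ≫ pullback.snd f f) (by
      rw [Category.assoc, ← pullback.condition (f := f) (g := f)]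
      exact pullback.condition)
  w₁ := rfl
  w₂ := by rw [← hf, ← Category.assoc, ← pullback.condition, Category.assoc]
  v₁₂ := by rw [pullback.lift_fst_assoc]
  v₂₃ := by
    rw [← hf, ← Category.assoc, ← Category.assoc, Category.assoc _ _ f, ← pullback.condition, Category.assoc]
  v₁₃ := by rw [pullback.lift_fst_assoc]
  H₂ := IsPullback.of_hasPullback f f
  H₃ := by
    rw [pullback.lift_fst]
    exact IsPullback.of_hasPullback f (pullback.fst f f ≫ f)
  h₁₂ := pullback.lift_snd _ _ _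
  h₁₃ := by rw [pullback.lift_fst, pullback.lift_fst]
  h₁₃' := pullback.lift_snd _ _ _

/-- The Picard functors of all proper schemes are generically representable. -/
def AllR : Prop := ∀ {X S : Scheme.{u}} [IsNoetherian S] [IsIntegral S] (f : X ⟶ S) [IsProper f], GenR f

/-- A nonempty open is contained in a nonempty affine open. -/
theorem exists_affine_le {S : Scheme.{u}} {V : S.Opens} (hV : (V : Set S).Nonempty) :
    ∃ W : S.Opens, (W : Set S).Nonempty ∧ W ≤ V ∧ IsAffineOpen W := by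
  obtain ⟨x, hx⟩ := hV
  obtain ⟨W, hW, hxW, hle⟩ := exists_isAffineOpen_mem_and_subset hx
  exact ⟨W, ⟨x, hxW⟩, hle, hW⟩

/-- **Quasi-compactness** of `Pic_Y ⟶ Pic_X` over a nonempty open of the base, for `X ⟶ Y` finite flat
surjective. -/
theorem genM_flf (AR : AllR.{u}) [IsNoetherian S] [IsIntegral S] (hf : f ≫ g = p) [IsProper g] [IsProper p]
    [IsFinite f] [Flat f] [Surjective f] : GenM @QuasiCompact f hf := by
  let C := cech hf
  have i1 : IsFinite (pullback.fst f f) := inferInstance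
  have i2 : IsProper C.a₂ := by
    change IsProper (pullback.fst f f ≫ p)
    infer_instance
  have i3 : IsProper C.a₃ := by
    change IsProper (pullback.fst f (pullback.fst f f ≫ f) ≫ p)
    infer_instance
  obtain ⟨V₁, n₁, r₁⟩ := (AR g).exists_le
  obtain ⟨V₂, n₂, r₂⟩ := (AR p).exists_le
  obtain ⟨V₃, n₃, c₂⟩ := Pic13.H943.exists_cf C.a₂
  obtain ⟨V₄, n₄, c₃⟩ := Pic13.H943.exists_cf C.a₃
  obtain ⟨V, ⟨x, hx⟩, hle, hV⟩ := exists_affine_le (exists_inter n₁ (exists_inter n₂ (exists_inter n₃ n₄)))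
  have l₁ : V ≤ V₁ := fun y hy => (hle hy).1
  have l₂ : V ≤ V₂ := fun y hy => (hle hy).2.1
  have l₃ : V ≤ V₃ := fun y hy => (hle hy).2.2.1
  have l₄ : V ≤ V₄ := fun y hy => (hle hy).2.2.2
  have a1 : IsAffine V.toScheme := hV
  refine ⟨V, ⟨x, hx⟩, ?_⟩
  obtain ⟨R₃⟩ := UnitGrp.exists_rep _ (c₃ V l₄ hV)
  let T : Over S := Over.mk V.ι
  have j1 : IsProper (cechBc C T).a₂ := inferInstanceAs (IsProper (pullback.snd C.a₂ V.ι))
  have j2 : Flat (cechBc C T).a₂ := (c₂ V l₃ hV).flat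
  have j3 : IsFinite (mT f hf T) := MorphismProperty.of_isPullback (isPullback_mT f hf T).flip inferInstance
  have j4 : Flat (mT f hf T) := MorphismProperty.of_isPullback (isPullback_mT f hf T).flip inferInstance
  have j5 : Surjective (mT f hf T) := MorphismProperty.of_isPullback (isPullback_mT f hf T).flip inferInstance
  have j6 : IsLocallyNoetherian T.left := inferInstanceAs (IsLocallyNoetherian V.toScheme)
  exact mGood_flf (cechBc C T) R₃ (r₁ V l₁) (r₂ V l₂)

end K60.FlfQC
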