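import Groth.Agent.S4094
import Groth.Agent.S0414
import Groth.Agent.Flat2B.MonoRep
import Groth.Agent.ConsPropPair.K286.QAff
import Groth.Agent.Sga3C.KerSquare
import Groth.Agent.Sga3B.LocLim789
import Groth.Agent.Sga3B.BcPts

/-!
# Homomorphisms with flat affine kernel are quasi-affine

* `isQuasiAffine_of_ker`;
* `exists_open`: a scheme of finite type over an integral affine Noetherian base with affine generic fibre is flat and affine
  over a nonempty open.
-/

set_option autoImplicit false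
universe u

open CategoryTheory MonoidalCategory CartesianMonoidalCategory MonObj GrpObj AlgebraicGeometry Limits
open Groth.Agent

namespace K60.KerQA

open Groth.Agent.Sga3B.BcPts

section ker

variable {S : Scheme.{u}}

/-- points of a kernel -/
theorem isKernel_iff {N G H : Over S} [GrpObj H] (i : N ⟶ G) (u : G ⟶ H) :
    AlgGrp.IsKernel i u ↔ i ≫ u = 1 ∧ ∀ (T : Over S) (g : T ⟶ G), g ≫ u = 1 → ∃! y : T ⟶ N, y ≫ i = g := by
  constructor
  · intro h
    refine ⟨h.w, fun T g hg => ⟨h.lift g (toUnit T) hg, h.lift_fst _ _ _, fun y hy => ?_⟩⟩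
    exact h.hom_ext (by rw [h.lift_fst]; exact hy) (toUnit_unique _ _)
  · rintro ⟨h1, h2⟩
    have h3 : ∀ s : PullbackCone u η[H], s.fst ≫ u = 1 := fun s => by
      rw [s.condition, toUnit_unique s.snd (toUnit _)]; rfl
    choose l hl hl' using h2
    refine ⟨⟨h1⟩, ⟨PullbackCone.IsLimit.mk _ (fun s => l s.pt s.fst (h3 s)) ?_ ?_ ?_⟩⟩
    · intro s
      exact hl _ _ (h3 s)
    · intro s
      exact toUnit_unique _ _
    · intro s m hm _
      exact hl' _ _ (h3 s) m hm

theorem isKernel_bc {S' : Scheme.{u}} (t : S' ⟶ S) {N G H : Over S} [GrpObj H] {i : N ⟶ G} {u : G ⟶ H}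
    (h : AlgGrp.IsKernel i u) :
    AlgGrp.IsKernel (Q := Red.bc t H) ((Over.pullback t).map i) ((Over.pullback t).map u) := by
  rw [isKernel_iff] at h ⊢
  obtain ⟨h1, h2⟩ := h
  refine ⟨?_, fun T g hg => ?_⟩
  · rw [← Functor.map_comp, h1, Functor.map_one]
  · have h3 : (bcEquiv t T G).symm g ≫ u = 1 := by
      rw [← bcEquiv_symm_comp, hg]
      exact (bcEquiv t T H).symm_apply_eq.mpr (bcEquiv_one t).symm
    obtain ⟨y, hy, hy'⟩ := h2 _ _ h3
    refine ⟨bcEquiv t T N y, ?_, fun y' h' => ?_⟩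
    · change bcEquiv t T N y ≫ (Over.pullback t).map i = g
      rw [← bcEquiv_comp, hy, Equiv.apply_symm_apply]
    · have h4 := hy' ((bcEquiv t T N).symm y') (by
        change (bcEquiv t T N).symm y' ≫ i = (bcEquiv t T G).symm g
        rw [← bcEquiv_symm_comp, show y' ≫ (Over.pullback t).map i = g from h'])
      rw [← h4, Equiv.apply_symm_apply]

lemma isKernel_pullback {T H : Over S} [GrpObj H] (f : T ⟶ H) :
    AlgGrp.IsKernel (pullback.fst f η[H]) f := by
  have h := IsPullback.of_hasPullback f (η[H] : 𝟙_ (Over S) ⟶ H)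
  rwa [toUnit_unique (pullback.snd f η[H]) (toUnit _)] at h

/-- The square of schemes defined by a kernel. -/
lemma isPullback_left {N G H : Over S} [GrpObj H] {i : N ⟶ G} {u : G ⟶ H} (h : AlgGrp.IsKernel i u) :
    IsPullback i.left N.hom u.left (η[H] : 𝟙_ (Over S) ⟶ H).left := by
  have h1 : IsPullback i.left (toUnit N).left u.left (η[H] : 𝟙_ (Over S) ⟶ H).left := h.map (Over.forget S)
  have h2 : (toUnit N).left = N.hom := (Category.comp_id _).symm.trans (Over.w (toUnit N))
  rwa [h2] at h1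

lemma quasiCompact_of_surjective {X Y Z : Scheme.{u}} (f : X ⟶ Y) (g : Y ⟶ Z) [Surjective f]
    [QuasiCompact (f ≫ g)] : QuasiCompact g := by
  refine ⟨fun V hVo hV => ?_⟩
  have h1 := (f ≫ g).isCompact_preimage (U := ⟨V, hVo⟩) hV
  have h2 : (g : Y → Z) ⁻¹' V = (f : X → Y) '' ((f ≫ g : X ⟶ Z) ⁻¹' V) := by
    ext y
    constructor
    · intro hy
      obtain ⟨x, rfl⟩ := f.surjective y
      exact ⟨x, hy, rfl⟩
    · rintro ⟨x, hx, rfl⟩
      exact hx
  rw [h2]
  exact h1.image f.continuous

lemma qaff_of_isAffineHom {X Y : Scheme.{u}} (f : X ⟶ Y) [IsAffineHom f] : Mor2.IsQuasiAffine f := by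
  refine ⟨inferInstance, fun V hV => ?_⟩
  have h1 : IsAffine (f ⁻¹ᵁ V : Scheme.{u}) := hV.preimage f
  infer_instance

/-- A surjective flat homomorphism of finite presentation with affine kernel is affine. -/
theorem isAffineHom_of_ker {G Q : Over S} [GrpObj G] [GrpObj Q] (p : G ⟶ Q) [IsMonHom p]
    [Surjective p.left] [Flat p.left] [LocallyOfFinitePresentation p.left] {K : Over S} {k : K ⟶ G}
    (hk : AlgGrp.IsKernel k p) (hK : IsAffineHom K.hom) : IsAffineHom p.left := by
  have h0 : IsAffineHom (pullback.snd p.left (η[Q] : 𝟙_ (Over S) ⟶ Q).left) := by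
    rw [← (isPullback_left hk).isoPullback_inv_snd]
    infer_instance
  obtain ⟨d, hd⟩ := Sga3C.KerSquare.isPullback_fst_ker p
  have h1 : IsAffineHom (pullback.fst p.left p.left) :=
    MorphismProperty.of_isPullback (P := @IsAffineHom) hd.flip h0
  exact MorphismProperty.of_pullback_fst_of_descendsAlong (P := @IsAffineHom)
    (Q := @Surjective ⊓ @Flat ⊓ @LocallyOfFinitePresentation) (f := p.left) (g := p.left)
    ⟨⟨inferInstance, inferInstance⟩, inferInstance⟩ h1

/-- **A quasi-compact homomorphism with flat and affine kernel is quasi-affine.** -/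
theorem isQuasiAffine_of_ker {G H : Over S} [GrpObj G] [GrpObj H]
    [LocallyOfFinitePresentation G.hom] [LocallyOfFiniteType H.hom] (u : G ⟶ H) [IsMonHom u]
    [QuasiCompact u.left] {K : Over S} {k : K ⟶ G} (hk : AlgGrp.IsKernel k u) (hf : Flat K.hom)
    (ha : IsAffineHom K.hom) : Mor2.IsQuasiAffine u.left := by
  let e : K ≅ pullback u η[H] := IsPullback.isoIsPullback _ _ hk (isKernel_pullback u)
  have h1 : (pullback u η[H]).hom = e.inv.left ≫ K.hom := (Over.w _).symm
  have hKf' : Flat (pullback u η[H]).hom := by rw [h1]; infer_instance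
  have hKa' : IsAffineHom (pullback u η[H]).hom := by rw [h1]; infer_instance
  obtain ⟨Q, _, p, i, hp, hi, hpi, hps, hpf, hpl, him, hQl, hker⟩ := S4094.result S G H u hKf'
  have hpa : IsAffineHom p.left := isAffineHom_of_ker p hker hKa'
  have hm : Mono i.left := inferInstanceAs (Mono ((Over.forget S).map i))
  have hil : LocallyOfFiniteType i.left := by
    have : LocallyOfFiniteType (i.left ≫ H.hom) := by rw [Over.w]; infer_instance
    exact locallyOfFiniteType_of_comp i.left H.hom
  have hiq : QuasiCompact i.left := by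
    have : QuasiCompact (p.left ≫ i.left) := by rw [← Over.comp_left, hpi]; infer_instance
    exact quasiCompact_of_surjective p.left i.left
  rw [← hpi, Over.comp_left]
  exact Ega2.QuasiAffine.qaff_comp _ _ (qaff_of_isAffineHom p.left) (Flat2B.MonoRep.isQuasiAffine_of_mono i.left)

end ker

section generic

/-- **Spreading out.** -/
theorem exists_open {K S : Scheme.{u}} [IsAffine S] [IsIntegral S] (q : K ⟶ S) [LocallyOfFiniteType q]
    [QuasiCompact q] [IsSeparated q]
    (h : ∀ (k : Type u) [Field k] (a : Spec (CommRingCat.of k) ⟶ S), IsAffineHom (pullback.snd q a)) :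
    ∃ W : S.Opens, (W : Set S).Nonempty ∧ ∀ O : S.Opens, O ≤ W → Flat (pullback.snd q O.ι) ∧
      IsAffineHom (pullback.snd q O.ι) := by
  let R : Type u := Γ(S, ⊤)
  let F : Type u := FractionRing R
  let b : Spec (CommRingCat.of F) ⟶ Spec (CommRingCat.of R) := Spec.map (CommRingCat.ofHom (algebraMap R F))
  let e : S ≅ Spec (CommRingCat.of R) := S.isoSpec
  let a : Spec (CommRingCat.of F) ⟶ S := b ≫ e.inv
  have hb : a ≫ e.hom = b := by rw [Category.assoc, e.inv_hom_id, Category.comp_id]
  have h1 : IsAffine (pullback q a) := by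
    have := h F a
    exact isAffine_of_isAffineHom (pullback.snd q a)
  have sq : IsPullback (pullback.fst q a) (pullback.snd q a) (q ≫ e.hom) b := by
    rw [← hb]
    exact ⟨⟨by rw [← Category.assoc, ← Category.assoc, pullback.condition]⟩,
      ⟨pullbackIsPullbackOfCompMono q a e.hom⟩⟩
  have h2 : IsAffine (pullback (q ≫ e.hom) b) := IsAffine.of_isIso sq.isoPullback.inv
  obtain ⟨g, hg, hgU⟩ := Sga3B.LocLim789.exists_isAffineOpen (M := nonZeroDivisors R) F (q ≫ e.hom) h2
  let W₁ : S.Opens := e.hom ⁻¹ᵁ (PrimeSpectrum.basicOpen g)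
  have hW₁ : IsAffineOpen W₁ := (IsAffineOpen.Spec_basicOpen (R := CommRingCat.of R) g).preimage e.hom
  have hqW₁ : IsAffineOpen (q ⁻¹ᵁ W₁) := hgU
  have hn₁ : (W₁ : Set S).Nonempty := by
    have hne : (PrimeSpectrum.basicOpen g : Set (PrimeSpectrum R)).Nonempty := by
      rw [Set.nonempty_iff_ne_empty]
      intro h0
      have h3 : PrimeSpectrum.basicOpen g = ⊥ := SetLike.coe_injective h0
      rw [PrimeSpectrum.basicOpen_eq_bot_iff] at h3
      exact nonZeroDivisors.ne_zero hg h3.eq_zero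
    obtain ⟨y, hy⟩ := hne
    exact ⟨e.inv y, by
      change e.hom (e.inv y) ∈ PrimeSpectrum.basicOpen g
      rw [← Scheme.Hom.comp_apply, e.inv_hom_id]
      exact hy⟩
  obtain ⟨U, hU, hUf, -⟩ := S0414.result q
  obtain ⟨x, hx₁, hx₂⟩ := hU.inter_open_nonempty W₁ W₁.2 hn₁
  refine ⟨U ⊓ W₁, ⟨x, hx₂, hx₁⟩, fun O hO => ?_⟩
  have ee : ∀ O : S.Opens, q ∣_ O = (pullbackRestrictIsoRestrict q O).inv ≫ pullback.snd q O.ι := fun _ => rfl
  have f1 : Flat (pullback.snd q U.ι) := by
    rw [ee, MorphismProperty.cancel_left_of_respectsIso @Flat] at hUf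
    exact hUf
  have f2 : IsAffineHom (pullback.snd q W₁.ι) := by
    have a1 : IsAffine (q ⁻¹ᵁ W₁).toScheme := hqW₁
    have a2 : IsAffine W₁.toScheme := hW₁
    have a3 : IsAffineHom (q ∣_ W₁) := inferInstance
    rw [ee, MorphismProperty.cancel_left_of_respectsIso @IsAffineHom] at a3
    exact a3
  have bcO : ∀ (P : MorphismProperty Scheme.{u}) [P.IsStableUnderBaseChange] (O' : S.Opens), O ≤ O' →
      P (pullback.snd q O'.ι) → P (pullback.snd q O.ι) := by
    intro P _ O' hO' hP
    have hw : pullback.fst q O.ι ≫ q = (pullback.snd q O.ι ≫ S.homOfLE hO') ≫ O'.ι := by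
      rw [Category.assoc, Scheme.homOfLE_ι, pullback.condition]
    have hsq : IsPullback (pullback.lift _ _ hw) (pullback.snd q O.ι) (pullback.snd q O'.ι) (S.homOfLE hO') := by
      refine IsPullback.of_right (t := IsPullback.of_hasPullback q O'.ι) ?_ (pullback.lift_snd _ _ _)
      rw [pullback.lift_fst, Scheme.homOfLE_ι]
      exact IsPullback.of_hasPullback q O.ι
    exact MorphismProperty.of_isPullback hsq hP
  exact ⟨bcO @Flat U (fun y hy => (hO hy).1) f1, bcO @IsAffineHom W₁ (fun y hy => (hO hy).2) f2⟩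

end generic

end K60.KerQA
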