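import Groth.Agent.Pic13.K60.KerQA
import Mathlib.AlgebraicGeometry.AlgClosed.Basic

/-!
# Quasi-finite homomorphisms and their kernels

* `lqf_of_ker`: a quasi-compact homomorphism with quasi-finite kernel is quasi-finite;
* `lqf_of_isOpen_unit`: a group scheme over an algebraically closed field whose unit point is open is discrete.
-/

set_option autoImplicit false
universe u

open CategoryTheory MonoidalCategory CartesianMonoidalCategory MonObj GrpObj AlgebraicGeometry Limits
open Groth.Agent

namespace K60.KerQF

open K60.KerQA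

/-- A quasi-compact homomorphism with quasi-finite kernel is quasi-finite. -/
theorem lqf_of_ker {S : Scheme.{u}} {G H : Over S} [GrpObj G] [GrpObj H] (u : G ⟶ H) [IsMonHom u]
    [QuasiCompact u.left] [LocallyOfFiniteType u.left] {K : Over S} {k : K ⟶ G} (hk : AlgGrp.IsKernel k u)
    (h : LocallyQuasiFinite K.hom) : LocallyQuasiFinite u.left := by
  have h0 : LocallyQuasiFinite (pullback.snd u.left (η[H] : 𝟙_ (Over S) ⟶ H).left) := by
    rw [← (isPullback_left hk).isoPullback_inv_snd]
    infer_instance
  obtain ⟨d, hd⟩ := Sga3C.KerSquare.isPullback_fst_ker u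
  have h1 : LocallyQuasiFinite (pullback.fst u.left u.left) :=
    MorphismProperty.of_isPullback (P := @LocallyQuasiFinite) hd.flip h0
  refine LocallyQuasiFinite.of_finite_preimage_singleton _ fun x => ?_
  by_cases hx : ∃ y, u.left y = x
  · obtain ⟨y, hy⟩ := hx
    have h2 : (pullback.fst u.left u.left ⁻¹' {y}).Finite :=
      (pullback.fst u.left u.left).finite_preimage_singleton y
    refine (h2.image (pullback.snd u.left u.left)).subset ?_
    intro z hz
    have hz' : u.left z = x := hz
    obtain ⟨w, hw1, hw2⟩ := Scheme.Pullback.exists_preimage_pullback (f := u.left) (g := u.left) y z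
      (by rw [hy, hz'])
    exact ⟨w, hw1, hw2⟩
  · convert Set.finite_empty
    ext z
    constructor
    · intro hz
      exact hx ⟨z, hz⟩
    · intro hz
      exact hz.elim

section translation

variable {C : Type*} [Category C] [CartesianMonoidalCategory C] {G : C} [GrpObj G]

/-- Left translation. -/
@[simps] def leftTrans (g : 𝟙_ C ⟶ G) : G ≅ G where
  hom := (toUnit G ≫ g) * 𝟙 G
  inv := (toUnit G ≫ g)⁻¹ * 𝟙 G
  hom_inv_id := by
    rw [MonObj.comp_mul, GrpObj.comp_inv, Category.comp_id, comp_toUnit_assoc, inv_mul_cancel_left]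
  inv_hom_id := by
    rw [MonObj.comp_mul, Category.comp_id, comp_toUnit_assoc, mul_inv_cancel_left]

lemma unit_leftTrans (g : 𝟙_ C ⟶ G) : η[G] ≫ (leftTrans g).hom = g := by
  rw [leftTrans_hom, MonObj.comp_mul, Category.comp_id, comp_toUnit_assoc, toUnit_unit, Category.id_comp,
    one_eq_one, _root_.mul_one]

end translation

/-- If the unit point of a group scheme over an algebraically closed field is open, the group scheme is discrete. -/
theorem lqf_of_isOpen_unit {Ω : Type u} [Field Ω] [IsAlgClosed Ω] (K : Over (Spec (CommRingCat.of Ω))) [GrpObj K]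
    [LocallyOfFiniteType K.hom] (pt : Spec (CommRingCat.of Ω))
    (h : IsOpen {(η[K] : 𝟙_ (Over (Spec (CommRingCat.of Ω))) ⟶ K).left pt}) : LocallyQuasiFinite K.hom := by
  -- closed points are open
  have h1 : ∀ x : K.left, IsClosed {x} → IsOpen {x} := by
    intro x hx
    let g : 𝟙_ (Over (Spec (CommRingCat.of Ω))) ⟶ K := Over.homMk (pointOfClosedPoint K.hom x hx)
      (pointOfClosedPoint_comp K.hom x hx)
    let t : K.left ≅ K.left := (Over.forget _).mapIso (leftTrans g)
    have ht : t.hom ((η[K] : 𝟙_ (Over (Spec (CommRingCat.of Ω))) ⟶ K).left pt) = x := by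
      have h2 := congrArg (fun z => z.left) (unit_leftTrans g)
      rw [Over.comp_left] at h2
      have h3 : g.left pt = x := pointOfClosedPoint_apply K.hom x hx pt
      rw [← h3]
      change (leftTrans g).hom.left _ = g.left pt
      rw [← Scheme.Hom.comp_apply]
      exact congr(($h2) pt)
    have h4 := t.hom.isOpenEmbedding.isOpenMap _ h
    rwa [Set.image_singleton, ht] at h4
  have hJ : JacobsonSpace K.left := LocallyOfFiniteType.jacobsonSpace K.hom
  -- all points are closed
  let D : Set K.left := ⋃ x ∈ {x : K.left | IsClosed {x}}, {x}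
  have hD : IsOpen D := isOpen_biUnion fun x hx => h1 x hx
  have hDu : D = Set.univ := by
    by_contra hne
    have hne' : (Dᶜ : Set K.left).Nonempty := Set.nonempty_compl.2 hne
    obtain ⟨y, hy, hyc⟩ := nonempty_inter_closedPoints hne' hD.isClosed_compl.isLocallyClosed
    apply hy
    simp only [D, Set.mem_iUnion]
    exact ⟨y, hyc, rfl⟩
  have hdisc : DiscreteTopology K.left := by
    rw [discreteTopology_iff_isOpen_singleton]
    intro x
    have hx : x ∈ D := hDu ▸ Set.mem_univ x
    simp only [D, Set.mem_iUnion] at hx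
    obtain ⟨y, hy, hxy⟩ := hx
    rw [Set.mem_singleton_iff] at hxy
    subst hxy
    exact h1 x hy
  rw [locallyQuasiFinite_iff_isDiscrete_preimage_singleton]
  intro x
  exact ⟨inferInstance⟩

end K60.KerQF
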