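import Groth.Agent.Pic13.H508.SqMT
import Groth.Agent.Sga3B.BcPts

/-!
# Morphisms of Picard schemes induced by morphisms

* `MGood Q q h`: the Picard functors of `A` and `B` are represented by separated schemes locally of finite type and the
  morphism `Pic_B ⟶ Pic_A` induced by `q : A ⟶ B` has the property `Q`;
* `MGood.all`, `MGood.of_isPullback`, `MGood.comp`, `MGood.cancel`.
-/

set_option autoImplicit false
universe w u

open CategoryTheory CategoryTheory.Limits AlgebraicGeometry Opposite MonoidalCategory CartesianMonoidalCategory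
open Groth.Agent.Ega3A.PicDiv Groth.Agent.Ega3A.PicEtSh Groth.Agent.Grpsch.PicGrp
open Groth.Agent.Ega3A.PicSheaf Groth.Agent.Ega3A.PicRep Groth.Agent.Picfga.OverRep
open Groth.Agent.Pic13.H547 Groth.Agent.Pic13.H508.SqMT
open Groth.Agent.Ega3A.PicLocBase (ecovLift ecovLift_w ecovMap fromMap toMap fromMap_toMap toMap_fromMap)
open Groth.Agent.Sga3B.BcPts (bcEquiv bcEquiv_comp comp_bcEquiv bcEquiv_symm_comp comp_bcEquiv_symm)

namespace K60.MGood

section bc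

variable {X S X' S' : Scheme.{u}} {f : X ⟶ S} {f₁ : X' ⟶ S'} {v : X' ⟶ X} {a : S' ⟶ S} (H : IsPullback v f₁ f a)

include H in
/-- The pasted square. -/
theorem pasted (T : Over S') : IsPullback (pullback.fst f₁ T.hom ≫ v) (pullback.snd f₁ T.hom) f
    ((Over.map a).obj T).hom :=
  (IsPullback.of_hasPullback f₁ T.hom).paste_horiz H

/-- `X ×_S T ≅ X' ×_{S'} T`. -/
noncomputable def eP (T : Over S') : PicF.XT f ((Over.map a).obj T) ≅ PicF.XT f₁ T :=
  (pasted H T).isoPullback.symm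

@[reassoc]
lemma eP_fst (T : Over S') : (eP H T).hom ≫ pullback.fst f₁ T.hom ≫ v = pullback.fst f _ :=
  (pasted H T).isoPullback_inv_fst

@[reassoc]
lemma eP_snd (T : Over S') : (eP H T).hom ≫ pullback.snd f₁ T.hom = pullback.snd f _ :=
  (pasted H T).isoPullback_inv_snd

lemma XTmap_eP {T T' : Over S'} (g : T' ⟶ T) :
    PicF.XTmap f ((Over.map a).map g) ≫ (eP H T).hom = (eP H T').hom ≫ PicF.XTmap f₁ g := by
  have hg : ((Over.map a).map g).left = g.left := rfl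
  apply (pasted H T).hom_ext
  · rw [Category.assoc, eP_fst, XTmap_fst]
    have h1 : (eP H T').hom ≫ (PicF.XTmap f₁ g ≫ pullback.fst f₁ T.hom) ≫ v = pullback.fst f _ := by
      rw [XTmap_fst, eP_fst]
    simpa only [Category.assoc] using h1.symm
  · rw [Category.assoc, eP_snd, XTmap_snd, Category.assoc, XTmap_snd, eP_snd_assoc, hg]

/-- A class on `X' ×_{S'} T` transported to `X ×_S T`. -/
noncomputable def tr (T : Over S') (c : Pic (PicF.XT f₁ T)) : Pic (PicF.XT f ((Over.map a).obj T)) :=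
  pull (eP H T).hom c

lemma tr_pu {T T' : Over S'} (g : T' ⟶ T) (c : Pic (PicF.XT f₁ T)) :
    tr H T' (pu f₁ g c) = pu f ((Over.map a).map g) (tr H T c) := by
  rw [tr, pu, pu, tr, ← pull_comp, ← pull_comp, XTmap_eP]

lemma tr_injective (T : Over S') : Function.Injective (tr H T) := by
  intro c c' h
  have h1 := congrArg (pull (eP H T).inv) h
  rw [tr, tr, ← pull_comp, ← pull_comp, Iso.inv_hom_id, pull_id, pull_id] at h1
  exact h1

lemma tr_surjective (T : Over S') : Function.Surjective (tr H T) := by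
  intro c
  refine ⟨pull (eP H T).inv c, ?_⟩
  rw [tr, ← pull_comp, Iso.hom_inv_id, pull_id]

lemma locEq_tr_iff (T : Over S') (c c' : Pic (PicF.XT f₁ T)) :
    LocEq f _ (tr H T c) (tr H T c') ↔ LocEq f₁ T c c' := by
  constructor
  · rintro ⟨𝒰, h⟩
    refine ⟨ecovLift a 𝒰, fun i => tr_injective H _ ?_⟩
    rw [tr_pu, tr_pu]
    have h1 : (Over.map a).map ((ecovLift a 𝒰).j i) = fromMap a (𝒰.V i) _ (ecovLift_w a 𝒰 i) ≫ 𝒰.j i := by
      ext
      exact (Category.id_comp _).symm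
    rw [pu_eq f h1, pu_eq f h1, pu_comp, pu_comp]
    exact congrArg _ (h i)
  · rintro ⟨𝒰, h⟩
    refine ⟨ecovMap a 𝒰, fun i => ?_⟩
    change pu f ((Over.map a).map (𝒰.j i)) _ = pu f ((Over.map a).map (𝒰.j i)) _
    rw [← tr_pu, ← tr_pu, h i]

variable {P : Over S} {φ : ∀ T : Over S, Pic (PicF.XT f T) → (T ⟶ P)}

/-- Base change of `RepPic` along a cartesian square. -/
theorem repPic_bc (hP : RepPic f P φ) :
    RepPic f₁ (Red.bc a P) (fun T c => bcEquiv a T P (φ _ (tr H T c))) where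
  nat {T T'} g c := by
    rw [tr_pu, hP.nat, comp_bcEquiv]
  surj {T} g := by
    obtain ⟨𝒰, h𝒰⟩ := hP.surj ((bcEquiv a T P).symm g)
    refine ⟨ecovLift a 𝒰, fun i => ?_⟩
    obtain ⟨c, hc⟩ := h𝒰 i
    obtain ⟨d, hd⟩ := tr_surjective H ((ecovLift a 𝒰).V i)
      (pu f (fromMap a (𝒰.V i) _ (ecovLift_w a 𝒰 i)) c)
    refine ⟨d, ?_⟩
    apply (bcEquiv a _ P).symm.injective
    have h1 : (Over.map a).map ((ecovLift a 𝒰).j i) = fromMap a (𝒰.V i) _ (ecovLift_w a 𝒰 i) ≫ 𝒰.j i := by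
      ext
      exact (Category.id_comp _).symm
    rw [Equiv.symm_apply_apply, hd, hP.nat, hc, comp_bcEquiv_symm, ← Category.assoc, h1]
  inj {T c c'} h := by
    rw [← locEq_tr_iff H]
    exact hP.inj ((bcEquiv a T P).injective h)

end bc

section pw

variable {A B S A' B' S' : Scheme.{u}} {f' : A ⟶ S} {f : B ⟶ S} {q : A ⟶ B} (h : q ≫ f = f')
  {f₁' : A' ⟶ S'} {f₁ : B' ⟶ S'} {q₁ : A' ⟶ B'} (h₁ : q₁ ≫ f₁ = f₁') {vA : A' ⟶ A} {vB : B' ⟶ B} {a : S' ⟶ S}
  (H' : IsPullback vA f₁' f' a) (H : IsPullback vB f₁ f a) (hq : q₁ ≫ vB = vA ≫ q)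

include hq in
lemma eP_mT (T : Over S') : (eP H' T).hom ≫ mT q₁ h₁ T = mT q h ((Over.map a).obj T) ≫ (eP H T).hom := by
  apply (pasted H T).hom_ext
  · rw [Category.assoc, Category.assoc, eP_fst, mT_fst]
    have h2 : (mT q₁ h₁ T ≫ pullback.fst f₁ T.hom) ≫ vB = (pullback.fst _ _ ≫ vA) ≫ q := by
      rw [mT_fst, Category.assoc, hq, Category.assoc]
    rw [← Category.assoc (mT q₁ h₁ T), h2, ← Category.assoc, eP_fst]
  · rw [Category.assoc, Category.assoc, eP_snd, mT_snd, mT_snd, eP_snd]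

include hq in
lemma tr_pw (T : Over S') (c : Pic (PicF.XT f₁ T)) :
    tr H' T (pw q₁ h₁ T c) = pw q h _ (tr H T c) := by
  rw [tr, tr, pw, pw, ← pull_comp, ← pull_comp, eP_mT h h₁ H' H hq]

end pw

/-- The base change of a morphism over `S` is a base change. -/
theorem isPullback_bc_map {S S' : Scheme.{u}} (a : S' ⟶ S) {P P' : Over S} (r : P ⟶ P') :
    IsPullback ((Over.pullback a).map r).left (pullback.fst P.hom a) (pullback.fst P'.hom a) r.left := by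
  have h1 : ((Over.pullback a).map r).left ≫ pullback.fst P'.hom a = pullback.fst P.hom a ≫ r.left :=
    pullback.lift_fst _ _ _
  have h2 : ((Over.pullback a).map r).left ≫ pullback.snd P'.hom a = pullback.snd P.hom a :=
    pullback.lift_snd _ _ _
  refine (IsPullback.of_right (h₁₂ := pullback.snd P'.hom a) (v₁₃ := a) (h₂₂ := P'.hom) ?_ h1
    (IsPullback.of_hasPullback P'.hom a).flip)
  rw [h2, Over.w r]
  exact (IsPullback.of_hasPullback P.hom a).flip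

section uniq

variable {X S : Scheme.{u}} {f : X ⟶ S}

/-- Uniqueness of the representing scheme, with the maps. -/
theorem exists_iso {P P' : Over S} {φ : ∀ T : Over S, Pic (PicF.XT f T) → (T ⟶ P)}
    {φ' : ∀ T : Over S, Pic (PicF.XT f T) → (T ⟶ P')} (hP : RepPic f P φ) (hP' : RepPic f P' φ') :
    ∃ e : P ≅ P', ∀ (T : Over S) (c : Pic (PicF.XT f T)), φ T c ≫ e.hom = φ' T c := by
  have hid : ∀ (T : Over S) (c : Pic (PicF.XT f T)), pw (𝟙 X) (Category.id_comp f) T c = c := by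
    intro T c
    have h1 : mT (𝟙 X) (Category.id_comp f) T = 𝟙 _ := by
      apply pullback.hom_ext
      · rw [mT_fst, Category.comp_id, Category.id_comp]
      · rw [mT_snd, Category.id_comp]
    rw [pw, h1, pull_id]
  obtain ⟨r, hr⟩ := exists_res (𝟙 X) (Category.id_comp f) hP hP'
  obtain ⟨s, hs⟩ := exists_res (𝟙 X) (Category.id_comp f) hP' hP
  have key : ∀ {P : Over S} {φ : ∀ T : Over S, Pic (PicF.XT f T) → (T ⟶ P)} (_ : RepPic f P φ) (g : P ⟶ P),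
      (∀ (T : Over S) (c : Pic (PicF.XT f T)), φ T c ≫ g = φ T c) → g = 𝟙 P := by
    intro P φ hP g hg
    obtain ⟨𝒰, h𝒰⟩ := hP.surj (𝟙 P)
    apply LemmaA.hom_ext 𝒰
    intro i
    obtain ⟨c, hc⟩ := h𝒰 i
    rw [Category.comp_id] at hc
    rw [← hc, hg, Category.comp_id]
  refine ⟨⟨r, s, key hP _ fun T c => ?_, key hP' _ fun T c => ?_⟩, fun T c => ?_⟩
  · rw [← Category.assoc, hr, hid, hs, hid]
  · rw [← Category.assoc, hs, hid, hr, hid]
  · rw [hr, hid]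

end uniq

section MGood

variable (Q : MorphismProperty Scheme.{u})

variable {A B S : Scheme.{u}} {f' : A ⟶ S} {f : B ⟶ S} (q : A ⟶ B) (h : q ≫ f = f')

/-- `r` is the morphism induced by `q` on representing schemes. -/
def IsInd {P P' : Over S} (φ : ∀ T : Over S, Pic (PicF.XT f T) → (T ⟶ P))
    (φ' : ∀ T : Over S, Pic (PicF.XT f' T) → (T ⟶ P')) (r : P ⟶ P') : Prop :=
  ∀ (T : Over S) (c : Pic (PicF.XT f T)), φ T c ≫ r = φ' T (pw q h T c)

/-- The Picard functor of `f` is represented by a separated scheme, locally of finite type over `S`. -/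
structure Rp (f : B ⟶ S) (P : Over S) (φ : ∀ T : Over S, Pic (PicF.XT f T) → (T ⟶ P)) : Prop where
  rep : RepPic f P φ
  sep : IsSeparated P.hom
  lft : LocallyOfFiniteType P.hom

/-- The Picard functors of `A` and `B` are representable and the morphism induced by `q` has the property `Q`. -/
def MGood : Prop :=
  ∃ (P P' : Over S) (φ : ∀ T : Over S, Pic (PicF.XT f T) → (T ⟶ P))
    (φ' : ∀ T : Over S, Pic (PicF.XT f' T) → (T ⟶ P')), Rp f P φ ∧ Rp f' P' φ' ∧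
    ∃ r : P ⟶ P', IsInd q h φ φ' r ∧ Q r.left

/-- Representability by a separated scheme locally of finite type. -/
def RGood (f : B ⟶ S) : Prop := ∃ (P : Over S) (φ : ∀ T : Over S, Pic (PicF.XT f T) → (T ⟶ P)), Rp f P φ

variable {Q q h}

theorem IsInd.eq {P P' : Over S} {φ : ∀ T : Over S, Pic (PicF.XT f T) → (T ⟶ P)}
    {φ' : ∀ T : Over S, Pic (PicF.XT f' T) → (T ⟶ P')} (hP : RepPic f P φ) {r s : P ⟶ P'}
    (hr : IsInd q h φ φ' r) (hs : IsInd q h φ φ' s) : r = s := by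
  obtain ⟨𝒰, h𝒰⟩ := hP.surj (𝟙 P)
  apply LemmaA.hom_ext 𝒰
  intro i
  obtain ⟨c, hc⟩ := h𝒰 i
  rw [Category.comp_id] at hc
  rw [← hc, hr, hs]

/-- The property holds for all choices. -/
theorem MGood.all [Q.RespectsIso] (hM : MGood Q q h) {P P' : Over S}
    {φ : ∀ T : Over S, Pic (PicF.XT f T) → (T ⟶ P)} {φ' : ∀ T : Over S, Pic (PicF.XT f' T) → (T ⟶ P')}
    (hP : RepPic f P φ) (hP' : RepPic f' P' φ') {r : P ⟶ P'} (hr : IsInd q h φ φ' r) : Q r.left := by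
  obtain ⟨P₁, P₁', φ₁, φ₁', h₁, h₁', r₁, hr₁, hQ⟩ := hM
  obtain ⟨e, he⟩ := exists_iso hP h₁.rep
  obtain ⟨e', he'⟩ := exists_iso h₁'.rep hP'
  have h2 : IsInd q h φ φ' (e.hom ≫ r₁ ≫ e'.hom) := by
    intro T c
    rw [← Category.assoc, he, ← Category.assoc, hr₁, he']
  rw [IsInd.eq hP hr h2, Over.comp_left, Over.comp_left]
  have i1 : IsIso e.hom.left := inferInstance
  have i2 : IsIso e'.hom.left := inferInstance
  rw [MorphismProperty.cancel_left_of_respectsIso Q, MorphismProperty.cancel_right_of_respectsIso Q]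
  exact hQ

theorem MGood.mono (hM : MGood Q q h) {Q' : MorphismProperty Scheme.{u}} (hQ : Q ≤ Q') : MGood Q' q h := by
  obtain ⟨P₁, P₁', φ₁, φ₁', h₁, h₁', r₁, hr₁, hQ₁⟩ := hM
  exact ⟨P₁, P₁', φ₁, φ₁', h₁, h₁', r₁, hr₁, hQ _ hQ₁⟩

theorem MGood.left (hM : MGood Q q h) : RGood f := by
  obtain ⟨P₁, P₁', φ₁, φ₁', h₁, h₁', r₁, hr₁, hQ₁⟩ := hM
  exact ⟨P₁, φ₁, h₁⟩

theorem MGood.right (hM : MGood Q q h) : RGood f' := by
  obtain ⟨P₁, P₁', φ₁, φ₁', h₁, h₁', r₁, hr₁, hQ₁⟩ := hM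
  exact ⟨P₁', φ₁', h₁'⟩

theorem MGood.of_forall (h₁ : RGood f) (h₂ : RGood f') (hQ : ∀ (P P' : Over S)
    (φ : ∀ T : Over S, Pic (PicF.XT f T) → (T ⟶ P))
    (φ' : ∀ T : Over S, Pic (PicF.XT f' T) → (T ⟶ P')), Rp f P φ → Rp f' P' φ' → ∀ r : P ⟶ P', IsInd q h φ φ' r →
      Q r.left) : MGood Q q h := by
  obtain ⟨P, φ, hP⟩ := h₁
  obtain ⟨P', φ', hP'⟩ := h₂
  obtain ⟨r, hr⟩ := exists_res q h hP.rep hP'.rep
  exact ⟨P, P', φ, φ', hP, hP', r, hr, hQ P P' φ φ' hP hP' r hr⟩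

theorem Rp.bc {X S X' S' : Scheme.{u}} {f : X ⟶ S} {f₁ : X' ⟶ S'} {v : X' ⟶ X} {a : S' ⟶ S}
    (H : IsPullback v f₁ f a) {P : Over S} {φ : ∀ T : Over S, Pic (PicF.XT f T) → (T ⟶ P)} (hP : Rp f P φ) :
    Rp f₁ (Red.bc a P) (fun T c => bcEquiv a T P (φ _ (tr H T c))) where
  rep := repPic_bc H hP.rep
  sep := by
    have := hP.sep
    exact inferInstanceAs (IsSeparated (pullback.snd P.hom a))
  lft := by
    have := hP.lft
    exact inferInstanceAs (LocallyOfFiniteType (pullback.snd P.hom a))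

theorem RGood.of_isPullback {X S X' S' : Scheme.{u}} {f : X ⟶ S} {f₁ : X' ⟶ S'} {v : X' ⟶ X} {a : S' ⟶ S}
    (H : IsPullback v f₁ f a) (h : RGood f) : RGood f₁ := by
  obtain ⟨P, φ, hP⟩ := h
  exact ⟨_, _, hP.bc H⟩

variable {A' B' S' : Scheme.{u}} {f₁' : A' ⟶ S'} {f₁ : B' ⟶ S'} {q₁ : A' ⟶ B'} {h₁ : q₁ ≫ f₁ = f₁'} {vA : A' ⟶ A}
  {vB : B' ⟶ B} {a : S' ⟶ S}

theorem IsInd.bc (H' : IsPullback vA f₁' f' a) (H : IsPullback vB f₁ f a) (hq : q₁ ≫ vB = vA ≫ q) {P P' : Over S}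
    {φ : ∀ T : Over S, Pic (PicF.XT f T) → (T ⟶ P)} {φ' : ∀ T : Over S, Pic (PicF.XT f' T) → (T ⟶ P')}
    {r : P ⟶ P'} (hr : IsInd q h φ φ' r) :
    IsInd q₁ h₁ (fun T c => bcEquiv a T P (φ _ (tr H T c))) (fun T c => bcEquiv a T P' (φ' _ (tr H' T c)))
      ((Over.pullback a).map r) := by
  intro T c
  change bcEquiv a T P (φ _ (tr H T c)) ≫ (Over.pullback a).map r = bcEquiv a T P' (φ' _ (tr H' T _))
  rw [← bcEquiv_comp, hr, tr_pw h h₁ H' H hq]

/-- Base change of `MGood`. -/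
theorem MGood.of_isPullback [Q.IsStableUnderBaseChange] (hM : MGood Q q h) (H' : IsPullback vA f₁' f' a)
    (H : IsPullback vB f₁ f a) (hq : q₁ ≫ vB = vA ≫ q) : MGood Q q₁ h₁ := by
  obtain ⟨P, P', φ, φ', hP, hP', r, hr, hQ⟩ := hM
  exact ⟨_, _, _, _, hP.bc H, hP'.bc H', _, hr.bc H' H hq,
    MorphismProperty.of_isPullback (isPullback_bc_map a r).flip hQ⟩

end MGood

section comp

variable {Q : MorphismProperty Scheme.{u}} {A B C S : Scheme.{u}} {f'' : C ⟶ S} {f' : A ⟶ S} {f : B ⟶ S} {q : A ⟶ B}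
  {h : q ≫ f = f'} {p : C ⟶ A} {h' : p ≫ f' = f''} {s : C ⟶ B} {h'' : s ≫ f = f''} (w : p ≫ q = s)

include w in
lemma pw_comp (T : Over S) (c : Pic (PicF.XT f T)) : pw p h' T (pw q h T c) = pw s h'' T c := by
  subst w
  rw [pw, pw, pw, ← pull_comp, mT_comp]

include w in
theorem IsInd.comp {P P' P'' : Over S} {φ : ∀ T : Over S, Pic (PicF.XT f T) → (T ⟶ P)}
    {φ' : ∀ T : Over S, Pic (PicF.XT f' T) → (T ⟶ P')} {φ'' : ∀ T : Over S, Pic (PicF.XT f'' T) → (T ⟶ P'')}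
    {r : P ⟶ P'} {r' : P' ⟶ P''} (hr : IsInd q h φ φ' r) (hr' : IsInd p h' φ' φ'' r') :
    IsInd s h'' φ φ'' (r ≫ r') := by
  intro T c
  rw [← Category.assoc, hr, hr', pw_comp w]

include w in
theorem MGood.comp [Q.IsStableUnderComposition] [Q.RespectsIso] (h₁ : MGood Q q h) (h₂ : MGood Q p h') :
    MGood Q s h'' := by
  obtain ⟨P, P', φ, φ', hP, hP', r, hr, hQ⟩ := h₁
  obtain ⟨P'', φ'', hP''⟩ := h₂.right
  obtain ⟨r', hr'⟩ := exists_res p h' hP'.rep hP''.rep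
  exact ⟨P, P'', φ, φ'', hP, hP'', r ≫ r', hr.comp w hr', by
    rw [Over.comp_left]
    exact Q.comp_mem _ _ hQ (h₂.all hP'.rep hP''.rep hr')⟩

include w in
/-- Cancellation: if `Pic_B ⟶ Pic_A ⟶ Pic_C` has the property `Q`, so has `Pic_B ⟶ Pic_A`. -/
theorem MGood.cancel {Q' : MorphismProperty Scheme.{u}} [Q.HasOfPostcompProperty Q'] [Q.RespectsIso]
    (h₁ : MGood Q s h'') (h₂ : RGood f')
    (hQ' : ∀ {X Y : Scheme.{u}} (t : X ⟶ Y) (y : Y ⟶ S), IsSeparated (t ≫ y) → LocallyOfFiniteType (t ≫ y) → Q' t) :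
    MGood Q q h := by
  have h' : p ≫ f' = f'' := by rw [← h, ← Category.assoc, w, h'']
  obtain ⟨P, P'', φ, φ'', hP, hP'', r, hr, hQ⟩ := h₁
  obtain ⟨P', φ', hP'⟩ := h₂
  obtain ⟨r₁, hr₁⟩ := exists_res q h hP.rep hP'.rep
  obtain ⟨r₂, hr₂⟩ := exists_res p h' hP'.rep hP''.rep
  have e : r = r₁ ≫ r₂ := IsInd.eq hP.rep hr (IsInd.comp w hr₁ hr₂)
  refine ⟨P, P', φ, φ', hP, hP', r₁, hr₁, ?_⟩
  rw [e, Over.comp_left] at hQ
  refine MorphismProperty.of_postcomp (W := Q) (W' := Q') r₁.left r₂.left (hQ' _ P''.hom ?_ ?_) hQ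
  · rw [Over.w]; exact hP'.sep
  · rw [Over.w]; exact hP'.lft

end comp

end K60.MGood
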