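import Groth.Agent.Pic13.K60.PreM
import Groth.Agent.Pic13.H948.GenNil

/-!
# Restriction of the Picard functor to a nilpotent closed subscheme is affine

* `exists_K'`: the scheme `K` of the square-zero rule is a closed subscheme of `P₀`;
* `genM_sq`: for a closed immersion `i : X₀ ⟶ X` with square-zero ideal, `Pic_X ⟶ Pic_{X₀}` is affine over a nonempty
  open of the base.
-/

set_option autoImplicit false
universe u

open CategoryTheory CategoryTheory.Limits AlgebraicGeometry Opposite MonoidalCategory CartesianMonoidalCategory MonObj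
open Groth.Agent.Ega3A.PicDiv Groth.Agent.Ega3A.PicEtSh Groth.Agent.Grpsch.PicGrp
open Groth.Agent.Ega3A.PicSheaf Groth.Agent.Ega3A.PicRep Groth.Agent.Picfga.OverRep
open Groth.Agent.Pic13.H547 Groth.Agent.Pic13.H547.RelRep Groth.Agent.Pic13.H964.Defs
open Groth.Agent.Pic13.H602.Rig Groth.Agent.Pic13.H508.SqMT
open Groth.Agent Groth.Agent.Pic13 Groth.Agent.Pic13.H948.NilK K60.MGood K60.PreM

namespace K60.NilAff

/-- **The scheme `K`**, with its closed immersion to `P₀`. -/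
theorem exists_K' {X₀ X S : Scheme.{u}} (f : X ⟶ S) (i : X₀ ⟶ X) {P₀ : Over S}
    {φ : ∀ T : Over S, Pic (PicF.XT (i ≫ f) T) → (T ⟶ P₀)} (hφ : RepPic (i ≫ f) P₀ φ)
    [IsSeparated P₀.hom] [LocallyOfFiniteType P₀.hom]
    (hobs : ∀ (V : Over S) [IsAffine V.left] (c₀ : Pic (PicF.XT (i ≫ f) V)), ∃ (A : Over S) (a : A ⟶ V),
      IsClosedImmersion a.left ∧ ∀ (T : Over S) [IsAffine T.left] (v : T ⟶ V),
        (∃ c : Pic (PicF.XT f T), Groth.Agent.Grpsch.PicGrp.pull (wT f i T) c = pu (i ≫ f) v c₀) ↔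
          ∃ g : T ⟶ A, g ≫ a = v)
    {W : Over S} (ρ : ∀ T : Over S, (T ⟶ W) → Pic (PicF.XT f T))
    (natρ : ∀ {T T' : Over S} (g : T' ⟶ T) (r : T ⟶ W), ρ T' (g ≫ r) = pu f g (ρ T r))
    (hρ : ∀ (T : Over S) [IsAffine T.left] (r : T ⟶ W), Groth.Agent.Grpsch.PicGrp.pull (wT f i T) (ρ T r) = 1)
    (hs : ∀ (T : Over S) [IsAffine T.left] (c : Pic (PicF.XT f T)),
      Groth.Agent.Grpsch.PicGrp.pull (wT f i T) c = 1 → ∃ r : T ⟶ W, ρ T r = c) :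
    ∃ (K : Over S) (ι' : K ⟶ P₀) (π : ∀ T : Over S, Pic (PicF.XT f T) → (T ⟶ K)), IsClosedImmersion ι'.left ∧
      (∀ (T : Over S) (c : Pic (PicF.XT f T)), π T c ≫ ι' = φ T (r f i T c)) ∧
      (∀ {T T' : Over S} (g : T' ⟶ T) (c : Pic (PicF.XT f T)), π T' (pu f g c) = g ≫ π T c) ∧
      (∀ {T : Over S} (g : T ⟶ K), ∃ 𝒰 : ECov T, ∀ i, ∃ c : Pic (PicF.XT f (𝒰.V i)), π _ c = 𝒰.j i ≫ g) ∧
      (∀ {T : Over S} (c : Pic (PicF.XT f T)) (r : T ⟶ W), π T (c * ρ T r) = π T c) ∧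
      (∀ {T : Over S} (c c' : Pic (PicF.XT f T)), π T c = π T c' → ∃ 𝒰 : ECov T, ∀ i, ∃ r : 𝒰.V i ⟶ W,
        LocEq f _ (pu f (𝒰.j i) c') (pu f (𝒰.j i) c * ρ _ r)) := by
  obtain ⟨K, ι', hι', hK⟩ := H953.ClosedSub.exists_closed' (P₀ := P₀) (L := L φ)
    (fun g a h => L_bc hφ g a h) (fun 𝒰 a h => L_loc 𝒰 a h) (by
    intro κ
    obtain ⟨𝒰, h𝒰⟩ := hφ.surj (𝟙 P₀)
    obtain ⟨k, v, hv⟩ := 𝒰.covers κ
    obtain ⟨c, hc⟩ := h𝒰 k
    rw [Category.comp_id] at hc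
    obtain ⟨B, hB, hvB, -⟩ := exists_isAffineOpen_mem_and_subset (X := (𝒰.V k).left) (x := v) (U := ⊤) trivial
    let V : Over S := Over.mk (B.ι ≫ (𝒰.V k).hom)
    let m : V ⟶ 𝒰.V k := Over.homMk B.ι rfl
    have hV : IsAffine V.left := hB
    obtain ⟨A, a, ha, haA⟩ := hobs V (pu (i ≫ f) m c)
    have hm : Mono a := by
      have h1 : Mono a.left := inferInstance
      exact (Over.forget S).mono_of_mono_map h1
    refine ⟨V, A, m ≫ 𝒰.j k, a, hV, ?_, ⟨⟨v, hvB⟩, ?_⟩, ha,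
      L_chart hφ (m ≫ 𝒰.j k) (pu (i ≫ f) m c) (by rw [hφ.nat, hc]) a haA⟩
    · change Etale (B.ι ≫ (𝒰.j k).left)
      infer_instance
    · change (B.ι ≫ (𝒰.j k).left) ⟨v, hvB⟩ = κ
      rw [Scheme.Hom.comp_apply]
      exact hv)
  have hm : Mono ι' := by
    have h1 : Mono ι'.left := inferInstance
    exact (Over.forget S).mono_of_mono_map h1
  choose π hπ using fun (T : Over S) (c : Pic (PicF.XT f T)) => (hK T (φ T (r f i T c))).1 (L_self φ T c)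
  refine ⟨K, ι', π, hι', hπ, ?_, ?_, ?_, ?_⟩
  · intro T T' g c
    rw [← cancel_mono ι', hπ, r_pu, hφ.nat, Category.assoc, hπ]
  · intro T g
    obtain ⟨𝒰, h𝒰⟩ := (hK T (g ≫ ι')).2 ⟨g, rfl⟩
    refine ⟨𝒰, fun k => ?_⟩
    obtain ⟨c, hc⟩ := h𝒰 k
    refine ⟨c, ?_⟩
    rw [← cancel_mono ι', hπ, hc, Category.assoc]
  · intro T c w
    rw [← cancel_mono ι', hπ, hπ]
    apply RepPic.eq_of_locEq hφ
    obtain ⟨𝒲, hW, -⟩ := H948.GenNilOf.exists_affine_refine (triv T)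
    refine ⟨𝒲, fun l => ?_⟩
    have := hW l
    rw [← r_pu, ← r_pu, map_mul, map_mul, ← natρ]
    have h1 : r f i _ (ρ _ (𝒲.j l ≫ w)) = 1 := hρ _ _
    rw [h1, _root_.mul_one]
  · intro T c c' hcc
    have h1 : LocEq (i ≫ f) T (r f i T c) (r f i T c') := by
      apply hφ.inj
      rw [← hπ, ← hπ, hcc]
    obtain ⟨𝒰, h𝒰⟩ := h1
    obtain ⟨𝒲, hW, h𝒲⟩ := H948.GenNilOf.exists_affine_refine 𝒰
    refine ⟨𝒲, fun l => ?_⟩
    obtain ⟨k, s, hsk⟩ := h𝒲 l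
    have := hW l
    have h2 : r f i _ ((pu f (𝒲.j l) c)⁻¹ * pu f (𝒲.j l) c') = 1 := by
      rw [map_mul, map_inv, r_pu, r_pu, ← hsk, pu_comp, pu_comp, h𝒰, inv_mul_cancel]
    obtain ⟨w, hw⟩ := hs _ _ h2
    refine ⟨w, LocEq.of_eq ?_⟩
    rw [hw, mul_inv_cancel_left]

/-- Over a good base. -/
theorem genM_of_sit {X₀ X S : Scheme.{u}}
    (i : X₀ ⟶ X) (f : X ⟶ S) [IsAffine S] [IsLocallyNoetherian S] [IsIntegral S] (hsq : i.ker ^ 2 = ⊥)
    (hN : H126.NilSit.NSit i f) (hCF : H943.CF f) (hCF₀ : H943.CF (i ≫ f)) (hG : Good (i ≫ f)) :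
    GenM @IsAffineHom i (rfl : i ≫ f = i ≫ f) := by
  obtain ⟨RX⟩ := UnitGrp.exists_rep f hCF
  obtain ⟨R₀⟩ := UnitGrp.exists_rep (i ≫ f) hCF₀
  obtain ⟨W, _, _, _, _, q, _, ρ, natρ, hρ, hs, hker, hker1⟩ := H126.NilRep.exists_rep hN hsq R₀
  obtain ⟨P₀, hP₀, _, _, hAF⟩ := hG
  obtain ⟨φ, hφ⟩ := exists_repPic (i ≫ f) hP₀
  obtain ⟨K, ι', π, hι', hπ, natπ, surjπ, actπ, trans⟩ := exists_K' f i hφ
    (fun V _ c₀ => H243.NilObs.exists_obs hN hsq V c₀) ρ natρ hρ hs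
  have a1 : IsSeparated K.hom := by
    rw [← Over.w ι']
    infer_instance
  have a2 : LocallyOfFiniteType K.hom := by
    rw [← Over.w ι']
    infer_instance
  exact genM_of_pre (H948.GenNilOf.pre_of f q natρ hker natπ surjπ actπ trans)
    (H602.NilQ.exists_hQ' f i RX R₀ q hker1) (Q := @IsAffineHom) (fun _ h => h) i rfl ⟨hφ, ‹_›, ‹_›⟩ ι'
    (show IsAffineHom ι'.left by infer_instance) (fun T c => hπ T c)

/-- **Square-zero thickenings**: `Pic_X ⟶ Pic_{X₀}` is affine over a nonempty open. -/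
theorem genM_sq {X₀ X S : Scheme.{u}} (i : X₀ ⟶ X) (f : X ⟶ S) [IsAffine S] [IsNoetherian S] [IsIntegral S] [IsProper f]
    [IsClosedImmersion i] (hsq : i.ker ^ 2 = ⊥) (hg : GenGood (i ≫ f)) :
    GenM @IsAffineHom i (rfl : i ≫ f = i ≫ f) := by
  obtain ⟨V, hV, hVa, X₀', g₀, i', hi', hsq', hN, hCF, hCF₀, hG⟩ := H932.NilShrink.exists_sit i f hsq hg
  have a1 : IsAffine V.toScheme := hVa
  have a2 : Nonempty V.toScheme := by
    obtain ⟨x, hx⟩ := hV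
    exact ⟨⟨x, hx⟩⟩
  have a3 : IsIntegral V.toScheme := inferInstance
  have a4 : IsLocallyNoetherian V.toScheme := inferInstance
  refine GenM.of_open (t₁ := V.ι) (genM_of_sit i' (pullback.snd f V.ι) hsq' hN hCF hCF₀ hG)
    (vA₁ := g₀) (vB₁ := pullback.fst f V.ι) ?_ (IsPullback.of_hasPullback f V.ι) hi'.w
  exact hi'.flip.paste_vert (IsPullback.of_hasPullback f V.ι)

end K60.NilAff
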