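import Groth.Agent.Pic13.K60.NilAff
import Groth.Agent.Pic13.K60.GenFlf
import Groth.Agent.Pic13.H595.GeoBasic
import Groth.Agent.Pic13.H964.Final

/-!
# Nilpotent immersions and Picard schemes

`genM_nil`: for a surjective closed immersion `f : X ⟶ Y`, `Pic_Y ⟶ Pic_X` is affine over a nonempty open of the base.
-/

set_option autoImplicit false
universe u

open CategoryTheory CategoryTheory.Limits AlgebraicGeometry Opposite
open Groth.Agent.Ega3A.PicDiv Groth.Agent.Ega3A.PicEtSh Groth.Agent.Grpsch.PicGrp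
open Groth.Agent.Ega3A.PicSheaf Groth.Agent.Ega3A.PicRep
open Groth.Agent Groth.Agent.Pic13 Groth.Agent.Pic13.H547 Groth.Agent.Pic13.H508.SqMT Groth.Agent.Pic13.H964.Defs
open K60.MGood K60.FlfQC

namespace K60.NilMain

section iso

variable {Q : MorphismProperty Scheme.{u}} {A B S : Scheme.{u}} {f' : A ⟶ S} {f : B ⟶ S} {q : A ⟶ B}
  {h : q ≫ f = f'}

lemma pw_id (h : 𝟙 B ≫ f = f) (T : Over S) (c : Pic (PicF.XT f T)) : pw (𝟙 B) h T c = c := by
  have h1 : mT (𝟙 B) h T = 𝟙 _ := by
    apply pullback.hom_ext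
    · rw [mT_fst, Category.comp_id, Category.id_comp]
    · rw [mT_snd, Category.id_comp]
  rw [pw, h1, pull_id]

theorem MGood.of_isIso [Q.ContainsIdentities] [Q.RespectsIso] [IsIso q] (h₁ : RGood f) (h₂ : RGood f') :
    MGood Q q h := by
  refine MGood.of_forall h₁ h₂ fun P P' φ φ' hP hP' r hr => ?_
  have h' : inv q ≫ f' = f := by rw [← h, IsIso.inv_hom_id_assoc]
  obtain ⟨s, hs⟩ := exists_res (inv q) h' hP'.rep hP.rep
  have e1 : r ≫ s = 𝟙 P := by
    refine IsInd.eq (q := 𝟙 B) (h := Category.id_comp f) hP.rep (IsInd.comp (IsIso.inv_hom_id q) hr hs) ?_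
    intro T c
    rw [Category.comp_id, pw_id]
  have e2 : s ≫ r = 𝟙 P' := by
    refine IsInd.eq (q := 𝟙 A) (h := Category.id_comp f') hP'.rep (IsInd.comp (IsIso.hom_inv_id q) hs hr) ?_
    intro T c
    rw [Category.comp_id, pw_id]
  have hi : IsIso r := ⟨s, e1, e2⟩
  have hi' : IsIso r.left := (Over.forget S).map_isIso r
  exact Q.of_isIso r.left

theorem GenM.of_isIso [IrreducibleSpace S] [Q.ContainsIdentities] [Q.RespectsIso] [IsIso q] (h₁ : GenR f)
    (h₂ : GenR f') : GenM Q q h := by
  obtain ⟨V, hV, h₁⟩ := h₁.exists_le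
  obtain ⟨W, hW, h₂⟩ := h₂.exists_le
  refine ⟨V ⊓ W, exists_inter hV hW, ?_⟩
  have : IsIso (mT q h (Over.mk (V ⊓ W).ι)) := by
    have := isPullback_mT q h (Over.mk (V ⊓ W).ι)
    exact MorphismProperty.of_isPullback (P := MorphismProperty.isomorphisms Scheme.{u}) this.flip
      (show IsIso q from inferInstance)
  exact MGood.of_isIso (h₁ _ inf_le_left) (h₂ _ inf_le_right)

end iso

/-- The Picard functors of all proper schemes are generically good. -/
theorem genGood_all {X S : Scheme.{u}} [IsNoetherian S] [IsIntegral S] (f : X ⟶ S) [IsProper f] : GenGood f :=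
  H964.Final.genGood_of (fun i f _ _ _ _ _ hsq hg => H948.GenNil.genGood_nil i f hsq hg) f

theorem allR : AllR.{u} := fun f => GenR.of_genGood (genGood_all f)

/-- Square-zero thickenings. -/
theorem genM_sq' {X₀ X S : Scheme.{u}} (i : X₀ ⟶ X) (f : X ⟶ S) {f' : X₀ ⟶ S} (h : i ≫ f = f') [IsAffine S]
    [IsNoetherian S] [IsIntegral S] [IsProper f] [IsClosedImmersion i] (hsq : i.ker ^ 2 = ⊥) :
    GenM @IsAffineHom i h := by
  subst h
  exact NilAff.genM_sq i f hsq (genGood_all _)

/-- Nilpotent thickenings, for a power of two. -/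
theorem genM_two_pow {S : Scheme.{u}} [IsAffine S] [IsNoetherian S] [IsIntegral S]
    (k : ℕ) : ∀ {X : Scheme.{u}} (f : X ⟶ S) [IsProper f] (N : X.IdealSheafData), N ^ (2 ^ k) = ⊥ →
      GenM @IsAffineHom N.subschemeι (rfl : N.subschemeι ≫ f = N.subschemeι ≫ f) := by
  induction k with
  | zero =>
    intro X f _ N hN
    rw [pow_zero, pow_one] at hN
    subst hN
    exact GenM.of_isIso (allR _) (allR _)
  | succ k ih =>
    intro X f _ N hN
    have hle : N ^ 2 ≤ N := by
      rw [pow_two]
      intro U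
      exact Ideal.mul_le_left
    let i := Scheme.IdealSheafData.inclusion hle
    have hi : i ≫ (N ^ 2).subschemeι = N.subschemeι := Scheme.IdealSheafData.inclusion_subschemeι hle
    have hcl : IsClosedImmersion i := by
      have : IsClosedImmersion (i ≫ (N ^ 2).subschemeι) := by rw [hi]; infer_instance
      exact IsClosedImmersion.of_comp i (N ^ 2).subschemeι
    have hsq : i.ker ^ 2 = ⊥ := by
      have h1 : IsClosedImmersion (i ≫ (N ^ 2).subschemeι) := by rw [hi]; infer_instance
      have h2 := Fcompl.H545.SysBasic.comap_ker_comp i (N ^ 2).subschemeι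
      rw [hi, Scheme.IdealSheafData.ker_subschemeι] at h2
      rw [← h2, ← Divis.IdealComap.comap_pow]
      have h3 := Fcompl.H545.SysBasic.comap_ker_self (N ^ 2).subschemeι
      rwa [Scheme.IdealSheafData.ker_subschemeι] at h3
    have hq := ih f (N ^ 2) (by rw [← pow_mul, ← pow_succ']; exact hN)
    have hc : i ≫ (N ^ 2).subschemeι ≫ f = N.subschemeι ≫ f := by rw [← Category.assoc, hi]
    have hq' := genM_sq' i ((N ^ 2).subschemeι ≫ f) hc hsq
    exact GenM.comp hi hq hq'

/-- **Nilpotent immersions**, for an affine base. -/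
theorem genM_nil_aux {X Y S : Scheme.{u}} [IsAffine S] [IsNoetherian S] [IsIntegral S] (i : X ⟶ Y) (f : Y ⟶ S)
    [IsProper f] [IsClosedImmersion i] [Surjective i] {f' : X ⟶ S} (h : i ≫ f = f') : GenM @IsAffineHom i h := by
  have hN : IsLocallyNoetherian Y := LocallyOfFiniteType.isLocallyNoetherian f
  have hc : CompactSpace Y := QuasiCompact.compactSpace_of_compactSpace f
  have hN' : IsNoetherian Y := {}
  obtain ⟨k, hk⟩ := H595.GeoBasic.exists_pow_eq_bot i.ker (H595.GeoBasic.ideal_le_nilradical i)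
  have h1 := genM_two_pow k f i.ker (hk _ Nat.lt_two_pow_self.le)
  have hci : IsClosedImmersion (i.toImage ≫ i.imageι) := by rw [Scheme.Hom.toImage_imageι]; infer_instance
  have hiso : IsIso i.toImage := inferInstance
  have h2 : i.toImage ≫ i.imageι = i := Scheme.Hom.toImage_imageι i
  have h3 : i.toImage ≫ i.imageι ≫ f = f' := by rw [← Category.assoc, h2, h]
  have hp : IsProper f' := by rw [← h]; infer_instance
  exact GenM.comp h2 h1 (h' := h3) (GenM.of_isIso (allR _) (allR _))

/-- **Nilpotent immersions.** -/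
theorem genM_nil {X Y S : Scheme.{u}} [IsNoetherian S] [IsIntegral S] {f : X ⟶ Y} {g : Y ⟶ S}
    [IsProper g] [IsClosedImmersion f] [Surjective f] {p : X ⟶ S} (hf : f ≫ g = p) : GenM @IsAffineHom f hf := by
  obtain ⟨V, ⟨x, hx⟩, -, hV⟩ := exists_affine_le (S := S) (V := ⊤) ⟨genericPoint S, trivial⟩
  have a1 : IsAffine V.toScheme := hV
  have a2 : Nonempty V.toScheme := ⟨⟨x, hx⟩⟩
  have a3 : IsIntegral V.toScheme := inferInstance
  have a4 : IsNoetherian V.toScheme := {}
  let T : Over S := Over.mk V.ι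
  have b1 : IsClosedImmersion (mT f hf T) := MorphismProperty.of_isPullback (isPullback_mT f hf T).flip inferInstance
  have b2 : Surjective (mT f hf T) := MorphismProperty.of_isPullback (isPullback_mT f hf T).flip inferInstance
  have key : GenM @IsAffineHom (mT f hf T) (mT_snd f hf T) :=
    genM_nil_aux (S := V.toScheme) (mT f hf T) (pullback.snd g V.ι) (mT_snd f hf T)
  exact GenM.of_open (t₁ := V.ι) key (IsPullback.of_hasPullback p V.ι) (IsPullback.of_hasPullback g V.ι)
    (mT_fst f hf T)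

end K60.NilMain
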