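import Groth.Agent.Pic13.K60.GenM
import Groth.Agent.Pic13.H508.GenPre

/-!
# The morphism to `K` in the generic representability of the Picard functor

* `exists_lft'`: as `GenPre.exists_lft`, with the maps;
* `pre_bc`: base change of `GenPre.Pre` along a cartesian square, with explicit maps;
* `exists_of_pre`: over a nonempty open, the Picard scheme of `X` is affine over `K`.
-/

set_option autoImplicit false
universe w u

open CategoryTheory CategoryTheory.Limits AlgebraicGeometry Opposite MonoidalCategory CartesianMonoidalCategory MonObj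
open Groth.Agent.Ega3A.PicDiv Groth.Agent.Ega3A.PicEtSh Groth.Agent.Grpsch.PicGrp
open Groth.Agent.Ega3A.PicSheaf Groth.Agent.Ega3A.PicRep Groth.Agent.Picfga.OverRep
open Groth.Agent.Pic13.H547 Groth.Agent.Pic13.H547.RelRep Groth.Agent.Pic13.H964.Defs
open Groth.Agent.Ega3A.PicLocBase (ecovLift ecovLift_w ecovMap fromMap toMap)
open Groth.Agent.Sga3B.BcPts (bcEquiv bcEquiv_comp comp_bcEquiv bcEquiv_symm_comp comp_bcEquiv_symm bcEquiv_mul
  bcMulEquiv)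
open Groth.Agent Groth.Agent.Pic13.H508.GenPre Groth.Agent.Pic13.H508.QuotSm
open K60.MGood

namespace K60.PreM

variable {X S : Scheme.{u}} {f : X ⟶ S}

/-- Maps from a universal element. -/
theorem repPic_of_universal (E : PicSh f) {P : Over S} (z : E.G.obj (op P))
    (hz : ∀ (T : Over S) (x : E.G.obj (op T)), ∃! g : T ⟶ P, E.G.map g.op z = x) :
    ∃ φ : ∀ T : Over S, Pic (PicF.XT f T) → (T ⟶ P), RepPic f P φ ∧
      ∀ (T : Over S) (c : Pic (PicF.XT f T)), E.G.map (φ T c).op z = E.η c := by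
  choose φ hφ hu using hz
  refine ⟨fun T c => φ T (E.η c), ⟨?_, ?_, ?_⟩, fun T c => hφ T _⟩
  · intro T T' g c
    symm
    apply hu
    rw [Picfga.OverRep.map_comp_apply, hφ, E.nat]
  · intro T g
    obtain ⟨𝒰, h𝒰⟩ := E.locSurj T (E.G.map g.op z)
    refine ⟨𝒰, fun i => ?_⟩
    obtain ⟨c, hc⟩ := h𝒰 i
    refine ⟨c, (hu _ _ _ ?_).symm⟩
    change E.G.map (𝒰.j i ≫ g).op z = _
    rw [Picfga.OverRep.map_comp_apply, hc]
  · intro T c c' h
    rw [← E.eq_iff, ← hφ T (E.η c), ← hφ T (E.η c'), h]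

section lemmaA

variable {K W U Q : Over S} {q : W ⟶ Q} {π : ∀ T : Over S, Pic (PicF.XT f T) → (T ⟶ K)}
  {ρ : ∀ T : Over S, (T ⟶ W) → Pic (PicF.XT f T)}

/-- **Lemma A** with finiteness and the maps. -/
theorem exists_lft' (h : LemmaA.Data f q π ρ) [Smooth q.left] [Surjective q.left] [IsAffineHom Q.hom]
    [LocallyOfFiniteType Q.hom] : ∃ (P : Over S) (r : P ⟶ K) (φ : ∀ T : Over S, Pic (PicF.XT f T) → (T ⟶ P)),
      RepPic f P φ ∧ (∀ (T : Over S) (c : Pic (PicF.XT f T)), φ T c ≫ r = π T c) ∧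
      IsAffineHom r.left ∧ LocallyOfFiniteType r.left := by
  obtain ⟨E⟩ := exists_picSh f
  obtain ⟨p, hp⟩ := h.exists_toSch E
  have charts : ∀ κ : K.left, ∃ (V : Over S) (j : V ⟶ K) (ξ : E.G.obj (op (V ⊗ Q))), Etale j.left ∧
      κ ∈ Set.range j.left ∧ IsAffine V.left ∧ RelUniv p j (fst V Q) ξ := by
    intro κ
    obtain ⟨𝒰, h𝒰⟩ := h.surjπ (𝟙 K)
    obtain ⟨i, v, hv⟩ := 𝒰.covers κ
    obtain ⟨c, hc⟩ := h𝒰 i
    rw [Category.comp_id] at hc
    obtain ⟨B, hB, hvB, -⟩ := exists_isAffineOpen_mem_and_subset (X := (𝒰.V i).left) (x := v) (U := ⊤) trivial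
    let V : Over S := Over.mk (B.ι ≫ (𝒰.V i).hom)
    let m : V ⟶ 𝒰.V i := res (𝒰.V i) B
    have hV : IsAffine V.left := hB
    obtain ⟨ξ, hξ⟩ := h.exists_chart E p hp (m ≫ 𝒰.j i) (pu f m c) (by rw [h.natπ, hc])
    have h𝒰i := 𝒰.isEtale i
    refine ⟨V, m ≫ 𝒰.j i, ξ, ?_, ⟨⟨v, hvB⟩, ?_⟩, hV, hξ⟩
    · change Etale (B.ι ≫ (𝒰.j i).left)
      infer_instance
    · change (B.ι ≫ (𝒰.j i).left) ⟨v, hvB⟩ = κ
      rw [Scheme.Hom.comp_apply]
      exact hv
  obtain ⟨P, Z, haff, hZ⟩ := exists_of_etale_affine E.sheaf p (by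
    intro κ
    obtain ⟨V, j, ξ, hj, hκ, hV, hξ⟩ := charts κ
    exact ⟨{ V := V, A := V ⊗ Q, j := j, a := fst V Q, ξ := ξ, etale := hj, mem := hκ, affV := hV
             aff := by
               change IsAffineHom (pullback.fst V.hom Q.hom)
               infer_instance
             univ := hξ }⟩)
  obtain ⟨φ, hφ, hφZ⟩ := repPic_of_universal E Z hZ
  refine ⟨P, p.π Z, φ, hφ, fun T c => ?_, haff, ?_⟩
  · rw [← p.nat, hφZ, hp]
  apply Sga3B.RepDescent.of_etale_cover (P := @LocallyOfFiniteType)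
  intro κ
  obtain ⟨V, j, ξ, hj, hκ, hV, hξ⟩ := charts κ
  refine ⟨V.left, j.left, hj, hκ, ?_⟩
  obtain ⟨g, hg, -⟩ := hZ (V ⊗ Q) ξ
  have ext : ∀ {T : Over S} (a b : T ⟶ P), E.G.map a.op Z = E.G.map b.op Z → a = b :=
    fun {T} a b hab => (hZ T _).unique hab rfl
  have sq : IsPullback g (fst V Q) (p.π Z) j := by
    refine ⟨⟨by rw [← p.nat, hg, hξ.1]⟩, ⟨PullbackCone.IsLimit.mk _
      (fun s => (hξ.2 _ s.snd (E.G.map s.fst.op Z) (by rw [p.nat, s.condition])).choose) ?_ ?_ ?_⟩⟩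
    · intro s
      apply ext
      rw [map_comp_apply, hg]
      exact (hξ.2 _ s.snd (E.G.map s.fst.op Z) (by rw [p.nat, s.condition])).choose_spec.1.2
    · intro s
      exact (hξ.2 _ s.snd (E.G.map s.fst.op Z) (by rw [p.nat, s.condition])).choose_spec.1.1
    · intro s m hm1 hm2
      refine (hξ.2 _ s.snd (E.G.map s.fst.op Z) (by rw [p.nat, s.condition])).choose_spec.2 _ ⟨hm2, ?_⟩
      rw [← hg, ← map_comp_apply, hm1]
  have sq' : IsPullback g.left (fst V Q).left (p.π Z).left j.left := sq.map (Over.forget S)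
  have h1 : LocallyOfFiniteType (fst V Q).left :=
    inferInstanceAs (LocallyOfFiniteType (pullback.fst V.hom Q.hom))
  rw [← sq'.isoPullback_inv_snd]
  infer_instance

end lemmaA

variable {K W U : Over S} [GrpObj W] {h : U ⟶ W} {π : ∀ T : Over S, Pic (PicF.XT f T) → (T ⟶ K)}
  {ρ : ∀ T : Over S, (T ⟶ W) → Pic (PicF.XT f T)}

/-- Base change of `Pre`, with explicit maps. -/
theorem pre_bc (P : Pre f h π ρ) {X' S' : Scheme.{u}} {f₁ : X' ⟶ S'} {v : X' ⟶ X} {a : S' ⟶ S}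
    (H : IsPullback v f₁ f a) :
    ∃ ρ' : ∀ T : Over S', (T ⟶ Red.bc a W) → Pic (PicF.XT f₁ T),
      Pre f₁ ((Over.pullback a).map h : Red.bc a U ⟶ Red.bc a W)
        (fun T c => bcEquiv a T K (π _ (tr H T c))) ρ' := by
  classical
  let ρ' : ∀ T : Over S', (T ⟶ Red.bc a W) → Pic (PicF.XT f₁ T) := fun T r =>
    Function.surjInv (tr_surjective H T) (ρ _ ((bcEquiv a T W).symm r))
  have hρ' : ∀ (T : Over S') (r : T ⟶ Red.bc a W), tr H T (ρ' T r) = ρ _ ((bcEquiv a T W).symm r) :=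
    fun T r => Function.surjInv_eq _ _
  refine ⟨ρ', ?_⟩
  refine { natπ := ?_, surjπ := ?_, natρ := ?_, ker := ?_, actπ := ?_, trans := ?_ }
  · intro T T' g c
    rw [tr_pu, P.natπ, comp_bcEquiv]
  · intro T g
    obtain ⟨𝒰, h𝒰⟩ := P.surjπ ((bcEquiv a T K).symm g)
    refine ⟨ecovLift a 𝒰, fun i => ?_⟩
    obtain ⟨c, hc⟩ := h𝒰 i
    obtain ⟨d, hd⟩ := tr_surjective H ((ecovLift a 𝒰).V i)
      (pu f (fromMap a (𝒰.V i) _ (ecovLift_w a 𝒰 i)) c)
    refine ⟨d, ?_⟩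
    apply (bcEquiv a _ K).symm.injective
    rw [Equiv.symm_apply_apply, hd, P.natπ, hc, comp_bcEquiv_symm, ← Category.assoc, map_ecovLift]
  · intro T T' g r
    rw [← locEq_tr_iff H, hρ', tr_pu, hρ', comp_bcEquiv_symm]
    exact P.natρ _ _
  · intro T x y
    rw [← locEq_tr_iff H, hρ', hρ', P.ker]
    constructor
    · rintro ⟨𝒰, h𝒰⟩
      refine ⟨ecovLift a 𝒰, fun i => ?_⟩
      obtain ⟨r, hr⟩ := h𝒰 i
      refine ⟨bcEquiv a _ U (fromMap a (𝒰.V i) _ (ecovLift_w a 𝒰 i) ≫ r), ?_⟩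
      apply (bcMulEquiv a _ W).symm.injective
      rw [map_mul]
      change (bcEquiv a _ W).symm _ = (bcEquiv a _ W).symm _ * (bcEquiv a _ W).symm _
      rw [comp_bcEquiv_symm a ((ecovLift a 𝒰).j i) x, comp_bcEquiv_symm a ((ecovLift a 𝒰).j i) y, bcEquiv_symm_comp,
        Equiv.symm_apply_apply, map_ecovLift, Category.assoc, hr, Category.assoc, Category.assoc, MonObj.comp_mul]
    · rintro ⟨𝒰, h𝒰⟩
      refine ⟨ecovMap a 𝒰, fun i => ?_⟩
      obtain ⟨r, hr⟩ := h𝒰 i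
      refine ⟨(bcEquiv a _ U).symm r, ?_⟩
      have h1 := congrArg (bcMulEquiv a _ W).symm hr
      rw [map_mul] at h1
      change (bcEquiv a _ W).symm _ = (bcEquiv a _ W).symm _ * (bcEquiv a _ W).symm _ at h1
      rw [comp_bcEquiv_symm a (𝒰.j i) x, comp_bcEquiv_symm a (𝒰.j i) y, bcEquiv_symm_comp] at h1
      exact h1
  · intro T c r
    have h1 : tr H T (c * ρ' T r) = tr H T c * tr H T (ρ' T r) := map_mul _ _ _
    rw [h1, hρ', P.actπ]
  · intro T c c' hc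
    obtain ⟨𝒰, h𝒰⟩ := P.trans _ _ ((bcEquiv a T K).injective hc)
    refine ⟨ecovLift a 𝒰, fun i => ?_⟩
    obtain ⟨r, hr⟩ := h𝒰 i
    let m := fromMap a (𝒰.V i) _ (ecovLift_w a 𝒰 i)
    refine ⟨bcEquiv a _ W (m ≫ r), ?_⟩
    have h1 : ∀ z z' : Pic (PicF.XT f₁ ((ecovLift a 𝒰).V i)),
      tr H _ (z * z') = tr H _ z * tr H _ z' := fun z z' => map_mul _ _ _
    rw [← locEq_tr_iff H, h1, tr_pu, tr_pu, hρ', Equiv.symm_apply_apply, map_ecovLift, pu_comp, pu_comp]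
    refine (hr.pull m).trans ?_
    rw [map_mul]
    exact (LocEq.refl _).mul (P.natρ m r).symm

/-- **Generic representability by a scheme affine over `K`**, from an exact sequence. -/
theorem exists_of_pre [GrpObj U] [IsMonHom h] (P : Pre f h π ρ) [IsSeparated K.hom]
    [LocallyOfFiniteType K.hom]
    (hQ : ∃ V : S.Opens, (V : Set S).Nonempty ∧ ∀ V' : S.Opens, V' ≤ V →
      Nonempty (SmQuot ((Over.pullback V'.ι).map h : Red.bc V'.ι U ⟶ Red.bc V'.ι W))) :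
    ∃ V : S.Opens, (V : Set S).Nonempty ∧ ∀ V' : S.Opens, V' ≤ V →
      ∃ (A : Over V'.toScheme) (φ : ∀ T : Over V'.toScheme, Pic (PicF.XT (pullback.snd f V'.ι) T) → (T ⟶ A))
        (r : A ⟶ Red.bc V'.ι K), Rp (pullback.snd f V'.ι) A φ ∧
        (∀ (T : Over V'.toScheme) (c : Pic (PicF.XT (pullback.snd f V'.ι) T)),
          φ T c ≫ r = bcEquiv V'.ι T K (π _ (tr (IsPullback.of_hasPullback f V'.ι) T c))) ∧ IsAffineHom r.left := by
  obtain ⟨V, hV, hQ⟩ := hQ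
  refine ⟨V, hV, fun V' hle => ?_⟩
  obtain ⟨Q⟩ := hQ V' hle
  obtain ⟨ρ', P'⟩ := pre_bc P (IsPullback.of_hasPullback f V'.ι)
  have a2 : IsSeparated (Red.bc V'.ι K).hom := inferInstanceAs (IsSeparated (pullback.snd K.hom V'.ι))
  have a3 : LocallyOfFiniteType (Red.bc V'.ι K).hom :=
    inferInstanceAs (LocallyOfFiniteType (pullback.snd K.hom V'.ι))
  obtain ⟨A, r, φ, h1, h2, h3, h4⟩ := exists_lft' (P'.data Q)
  refine ⟨A, φ, r, ⟨h1, ?_, ?_⟩, h2, h3⟩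
  · rw [← Over.w r]
    infer_instance
  · rw [← Over.w r]
    infer_instance

/-- If `K ⟶ Pic_A` has the property `Q`, then generically so has `Pic_X ⟶ Pic_A`. -/
theorem genM_of_pre [GrpObj U] [IsMonHom h] (P : Pre f h π ρ) [IsSeparated K.hom]
    [LocallyOfFiniteType K.hom]
    (hQ : ∃ V : S.Opens, (V : Set S).Nonempty ∧ ∀ V' : S.Opens, V' ≤ V →
      Nonempty (SmQuot ((Over.pullback V'.ι).map h : Red.bc V'.ι U ⟶ Red.bc V'.ι W)))
    {Q : MorphismProperty Scheme.{u}} [Q.IsStableUnderComposition] [Q.IsStableUnderBaseChange]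
    (haff : ∀ {X Y : Scheme.{u}} (g : X ⟶ Y), IsAffineHom g → Q g)
    {A : Scheme.{u}} {f' : A ⟶ S} (q : A ⟶ X) (hq : q ≫ f = f') {P₀ : Over S}
    {φ₀ : ∀ T : Over S, Pic (PicF.XT f' T) → (T ⟶ P₀)} (hP₀ : Rp f' P₀ φ₀) (κ : K ⟶ P₀) (hκ : Q κ.left)
    (hπ : ∀ (T : Over S) (c : Pic (PicF.XT f T)), π T c ≫ κ = φ₀ T (Pic13.H508.SqMT.pw q hq T c)) : GenM Q q hq := by
  obtain ⟨V, hV, hV'⟩ := exists_of_pre P hQ
  obtain ⟨B, φ, r, h1, h2, h3⟩ := hV' V le_rfl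
  refine ⟨V, hV, B, Red.bc V.ι P₀, φ, _, h1, hP₀.bc (IsPullback.of_hasPullback f' V.ι),
    r ≫ (Over.pullback V.ι).map κ, ?_, ?_⟩
  · intro T c
    rw [← Category.assoc]
    have e1 : φ T c ≫ r = bcEquiv V.ι T K (π _ (tr (IsPullback.of_hasPullback f V.ι) T c)) := h2 T c
    rw [e1, ← bcEquiv_comp, hπ]
    congr 2
    exact (tr_pw hq (Pic13.H508.SqMT.mT_snd q hq (Over.mk V.ι)) (IsPullback.of_hasPullback f' V.ι)
      (IsPullback.of_hasPullback f V.ι) (Pic13.H508.SqMT.mT_fst q hq _) T c).symm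
  · rw [Over.comp_left]
    exact Q.comp_mem _ _ (haff _ h3) (MorphismProperty.of_isPullback (isPullback_bc_map V.ι κ).flip hκ)

end K60.PreM
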