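import Groth.Agent.Pic13.K60.QCInd
import Groth.Agent.Pic13.K60.Bridge
import Groth.Agent.Pic13.K60.KerQA
import Groth.Agent.Pic13.H965.RelGrp
import Groth.Agent.S4299

/-!
# Quasi-affineness of `Pic_Y ⟶ Pic_X`

`genM_qaff`: for a surjective `f : X ⟶ Y` of proper schemes over an integral Noetherian base, the morphism `Pic_Y ⟶ Pic_X`
is quasi-affine over a nonempty open of the base.
-/

set_option autoImplicit false
universe u

open CategoryTheory MonoidalCategory CartesianMonoidalCategory MonObj GrpObj AlgebraicGeometry Limits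
open Groth.Agent.Ega3A.PicDiv Groth.Agent.Ega3A.PicEtSh Groth.Agent.Grpsch.PicGrp
open Groth.Agent.Ega3A.PicSheaf Groth.Agent.Ega3A.PicRep Groth.Agent.Picfga.PicBridge
open Groth.Agent Groth.Agent.Pic13 Groth.Agent.Pic13.H547 Groth.Agent.Pic13.H508.SqMT Groth.Agent.Pic13.H965
open K60.MGood K60.FlfQC K60.NilMain K60.KerQA

namespace K60.QAff

/-- Over a field the induced morphism is affine. -/
theorem mGood_field {k : Type u} [Field k] {X Y : Scheme.{u}} {f : X ⟶ Y} {g : Y ⟶ Spec (CommRingCat.of k)}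
    {p : X ⟶ Spec (CommRingCat.of k)} [IsProper g] [IsProper p] [Surjective f] {hf : f ≫ g = p} (h₁ : RGood g)
    (h₂ : RGood p) : MGood @IsAffineHom f hf := by
  obtain ⟨PY, φ, hY⟩ := h₁
  obtain ⟨PX, φ', hX⟩ := h₂
  obtain ⟨φY, hφY⟩ := representedBy_of_repPic _ hY.rep
  obtain ⟨φX, hφX⟩ := representedBy_of_repPic _ hX.rep
  have rY : Rp g PY (fun T c => φY T (ofPic c)) := ⟨Bridge.repPic_of_isRelPic hφY, hY.sep, hY.lft⟩
  have rX : Rp p PX (fun T c => φX T (ofPic c)) := ⟨Bridge.repPic_of_isRelPic hφX, hX.sep, hX.lft⟩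
  obtain ⟨m, hm₀⟩ := exists_res f hf rY.rep rX.rep
  have hm : IsInd f hf (fun T c => φY T (ofPic c)) (fun T c => φX T (ofPic c)) m := hm₀
  refine ⟨PY, PX, _, _, rY, rX, m, hm, ?_⟩
  letI i1 : X.Over (Spec (CommRingCat.of k)) := ⟨p⟩
  letI i2 : Y.Over (Spec (CommRingCat.of k)) := ⟨g⟩
  have i3 : IsProper (X ↘ Spec (CommRingCat.of k)) := inferInstanceAs (IsProper p)
  have i4 : IsProper (Y ↘ Spec (CommRingCat.of k)) := inferInstanceAs (IsProper g)
  refine S4299.result k X Y f hf (fun T => mT f hf T) (fun T => ⟨mT_fst f hf T, mT_snd f hf T⟩) PY PX φY φX hφY hφX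
    m ?_
  intro T c hc
  obtain ⟨d, rfl⟩ := exists_ofPic hc
  refine Eq.trans ?_ (hm T d).symm
  exact congrArg (φX T) (ofPic_pull (mT f hf T) d).symm

/-- Quasi-affineness after shrinking, from quasi-compactness; the kernel over the generic point is affine. -/
theorem genM_qaff_aux {X Y S : Scheme.{u}} [IsAffine S] [IsNoetherian S] [IsIntegral S] {f : X ⟶ Y} {g : Y ⟶ S}
    {p : X ⟶ S} [IsProper g] [IsProper p] [Surjective f] {hf : f ≫ g = p} (hM : MGood @QuasiCompact f hf) :
    GenM @Mor2.IsQuasiAffine f hf := by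
  obtain ⟨PY, φ, hY⟩ := hM.left
  obtain ⟨PX, φ', hX⟩ := hM.right
  obtain ⟨φY, hφY⟩ := representedBy_of_repPic _ hY.rep
  obtain ⟨φX, hφX⟩ := representedBy_of_repPic _ hX.rep
  have rY : Rp g PY (fun T c => φY T (ofPic c)) := ⟨Bridge.repPic_of_isRelPic hφY, hY.sep, hY.lft⟩
  have rX : Rp p PX (fun T c => φX T (ofPic c)) := ⟨Bridge.repPic_of_isRelPic hφX, hX.sep, hX.lft⟩
  obtain ⟨m, hm₀⟩ := exists_res f hf rY.rep rX.rep
  have hm : IsInd f hf (fun T c => φY T (ofPic c)) (fun T c => φX T (ofPic c)) m := hm₀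
  have hqc : QuasiCompact m.left := hM.all rY.rep rX.rep hm
  obtain ⟨gY, mulY, oneY, -⟩ := RelGrp.exists_grpObj hφY
  obtain ⟨gX, mulX, oneX, -⟩ := RelGrp.exists_grpObj hφX
  have hmon : IsMonHom m := RelGrp.isMonHom_of_natural hφY mulY mulX (fun T => pw f hf T) m (fun T c => (hm T c).symm)
  have sepX := hX.sep
  have sepY := hY.sep
  have lftX := hX.lft
  have lftY := hY.lft
  have hlft : LocallyOfFiniteType m.left := by
    have : LocallyOfFiniteType (m.left ≫ PX.hom) := by rw [Over.w]; infer_instance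
    exact locallyOfFiniteType_of_comp m.left PX.hom
  have hsep : IsSeparated m.left := by
    have : IsSeparated (m.left ≫ PX.hom) := by rw [Over.w]; infer_instance
    exact IsSeparated.of_comp m.left PX.hom
  let K : Over S := pullback m η[PX]
  let i : K ⟶ PY := pullback.fst m η[PX]
  have hk : AlgGrp.IsKernel i m := isKernel_pullback m
  have sq := isPullback_left hk
  have k1 : LocallyOfFiniteType K.hom := MorphismProperty.of_isPullback sq hlft
  have k2 : QuasiCompact K.hom := MorphismProperty.of_isPullback sq hqc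
  have k3 : IsSeparated K.hom := MorphismProperty.of_isPullback sq hsep
  obtain ⟨W, hW, hO⟩ := exists_open K.hom (by
    intro k _ a
    have s1 : Surjective (mT f hf (Over.mk a)) :=
      MorphismProperty.of_isPullback (isPullback_mT f hf (Over.mk a)).flip inferInstance
    have s2 : IsProper (pullback.snd g (Over.mk a).hom) := inferInstance
    have s3 : IsProper (pullback.snd p (Over.mk a).hom) := inferInstance
    have hg : IsPullback (pullback.fst g a) (pullback.snd g a) g a := IsPullback.of_hasPullback g a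
    have hp : IsPullback (pullback.fst p a) (pullback.snd p a) p a := IsPullback.of_hasPullback p a
    have h1 : MGood @IsAffineHom (mT f hf (Over.mk a)) (mT_snd f hf (Over.mk a)) :=
      mGood_field (k := k) (hM.left.of_isPullback hg) (hM.right.of_isPullback hp)
    have h2 : IsAffineHom ((Over.pullback a).map m).left :=
      h1.all (rY.bc hg).rep (rX.bc hp).rep (hm.bc hp hg (mT_fst f hf (Over.mk a)))
    exact MorphismProperty.of_isPullback (isPullback_left (isKernel_bc a hk)) h2)
  refine ⟨W, hW, ?_⟩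
  obtain ⟨f1, f2⟩ := hO W le_rfl
  have hg : IsPullback (pullback.fst g W.ι) (pullback.snd g W.ι) g W.ι := IsPullback.of_hasPullback g W.ι
  have hp : IsPullback (pullback.fst p W.ι) (pullback.snd p W.ι) p W.ι := IsPullback.of_hasPullback p W.ι
  refine ⟨_, _, _, _, rY.bc hg, rX.bc hp, _, hm.bc hp hg (mT_fst f hf (Over.mk W.ι)), ?_⟩
  have l1 : LocallyOfFiniteType (Red.bc W.ι PY).hom := (rY.bc hg).lft
  have l2 : LocallyOfFiniteType (Red.bc W.ι PX).hom := (rX.bc hp).lft
  have l3 : LocallyOfFinitePresentation (Red.bc W.ι PY).hom := by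
    have : IsLocallyNoetherian W.toScheme := inferInstance
    infer_instance
  have l4 : IsMonHom (M := Red.bc W.ι PY) (N := Red.bc W.ι PX) ((Over.pullback W.ι).map m) := inferInstance
  have l5 : QuasiCompact ((Over.pullback W.ι).map m).left :=
    MorphismProperty.of_isPullback (isPullback_bc_map W.ι m).flip hqc
  exact isQuasiAffine_of_ker (G := Red.bc W.ι PY) (H := Red.bc W.ι PX) ((Over.pullback W.ι).map m)
    (isKernel_bc W.ι hk) f1 f2

/-- **Quasi-affineness.** -/
theorem genM_qaff {X Y S : Scheme.{u}} [IsNoetherian S] [IsIntegral S] {f : X ⟶ Y} {g : Y ⟶ S} {p : X ⟶ S}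
    [IsProper g] [IsProper p] [Surjective f] (hf : f ≫ g = p) : GenM @Mor2.IsQuasiAffine f hf := by
  have hbc : MorphismProperty.IsStableUnderBaseChange @Mor2.IsQuasiAffine.{u} :=
    K286.QAff.isStableUnderBaseChange_isQuasiAffine
  obtain ⟨V₀, hV₀, hM⟩ := (QCInd.genM_qc hf).exists_le
  obtain ⟨V, ⟨x, hx⟩, hle, hV⟩ := exists_affine_le (S := S) (V := V₀) hV₀
  have a1 : IsAffine V.toScheme := hV
  have a2 : Nonempty V.toScheme := ⟨⟨x, hx⟩⟩
  have a3 : IsIntegral V.toScheme := inferInstance
  have a4 : IsNoetherian V.toScheme := {}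
  let T : Over S := Over.mk V.ι
  have b2 : Surjective (mT f hf T) := MorphismProperty.of_isPullback (isPullback_mT f hf T).flip inferInstance
  have key : GenM @Mor2.IsQuasiAffine (mT f hf T) (mT_snd f hf T) :=
    genM_qaff_aux (S := V.toScheme) (f := mT f hf T) (g := pullback.snd g V.ι) (hM V hle)
  exact GenM.of_open (t₁ := V.ι) key (IsPullback.of_hasPullback p V.ι) (IsPullback.of_hasPullback g V.ι)
    (mT_fst f hf T)

end K60.QAff
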