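import Groth.Agent.Pic13.K60.Two
import Groth.Agent.Pic13.K60.PreM
import Groth.Agent.Pic13.K60.GenFlf
import Groth.Agent.Pic13.H508.SqRule

/-!
# The morphism `Pic_X ⟶ Pic_{X'} × Pic_Y` of a patching square

For a patching square `b : X' ⟶ X`, `i : Y ⟶ X` the morphism `Pic_X ⟶ Pic_{X'} × Pic_Y` is affine over a nonempty
open of the base.
-/

set_option autoImplicit false
universe w u

open CategoryTheory CategoryTheory.Limits AlgebraicGeometry Opposite MonoidalCategory CartesianMonoidalCategory MonObj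
open Groth.Agent.Ega3A.PicDiv Groth.Agent.Ega3A.PicEtSh Groth.Agent.Grpsch.PicGrp
open Groth.Agent.Ega3A.PicSheaf Groth.Agent.Ega3A.PicRep
open Groth.Agent Groth.Agent.Pic13 Groth.Agent.Pic13.H547 Groth.Agent.Pic13.H547.UnitGrp
open Groth.Agent.Pic13.H508 Groth.Agent.Pic13.H508.SqMT Groth.Agent.Pic13.H508.SqPre Groth.Agent.Pic13.H508.SqEx
open Groth.Agent.Pic13.H508.SqGood Groth.Agent.Pic13.H508.SqRule Groth.Agent.Pic13.H508.GenPre
open Groth.Agent.Pic13.H508.QuotSm Groth.Agent.Pic13.H17.Patch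
open Groth.Agent.Sga3B.BcPts (bcEquiv bcEquiv_comp)
open K60.MGood K60.PreM K60.FlfQC

namespace K60.SqM

section K

variable {S : Scheme.{u}} {P₁ P₂ P₃ K : Over S} {r₁ : P₁ ⟶ P₃} {r₂ : P₂ ⟶ P₃} {k₁ : K ⟶ P₁} {k₂ : K ⟶ P₂}

lemma isPullback_lift_diag (sq : IsPullback k₁ k₂ r₁ r₂) :
    IsPullback (lift k₁ k₂) (k₁ ≫ r₁) (r₁ ⊗ₘ r₂) (lift (𝟙 P₃) (𝟙 P₃)) := by
  have hs : ∀ s : PullbackCone (r₁ ⊗ₘ r₂) (lift (𝟙 P₃) (𝟙 P₃)),
      (s.fst ≫ fst _ _) ≫ r₁ = (s.fst ≫ snd _ _) ≫ r₂ := by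
    intro s
    have h1 := congrArg (fun z => z ≫ fst _ _) s.condition
    have h2 := congrArg (fun z => z ≫ snd _ _) s.condition
    simp only [Category.assoc, tensorHom_fst, tensorHom_snd, lift_fst, lift_snd, Category.comp_id] at h1 h2
    rw [Category.assoc, Category.assoc, h1, h2]
  have hs' : ∀ s : PullbackCone (r₁ ⊗ₘ r₂) (lift (𝟙 P₃) (𝟙 P₃)), (s.fst ≫ fst _ _) ≫ r₁ = s.snd := by
    intro s
    have h1 := congrArg (fun z => z ≫ fst _ _) s.condition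
    simp only [Category.assoc, tensorHom_fst, lift_fst, Category.comp_id] at h1
    rw [Category.assoc, h1]
  refine ⟨⟨?_⟩, ⟨PullbackCone.IsLimit.mk _ (fun s => sq.lift (s.fst ≫ fst _ _) (s.fst ≫ snd _ _) (hs s)) ?_ ?_ ?_⟩⟩
  · rw [lift_map, comp_lift, Category.comp_id, sq.w]
  · intro s
    generalize hs s = e
    ext1
    · rw [Category.assoc, lift_fst, sq.lift_fst]
    · rw [Category.assoc, lift_snd, sq.lift_snd]
  · intro s
    rw [← Category.assoc, sq.lift_fst, hs']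
  · intro s m hm1 _
    apply sq.hom_ext
    · rw [sq.lift_fst, ← hm1, Category.assoc, lift_fst]
    · rw [sq.lift_snd, ← hm1, Category.assoc, lift_snd]

/-- The fibre product over a separated scheme is closed in the product. -/
lemma isClosedImmersion_lift (sq : IsPullback k₁ k₂ r₁ r₂) [IsSeparated P₃.hom] :
    IsClosedImmersion (lift k₁ k₂).left := by
  have h1 : IsClosedImmersion (lift (𝟙 P₃) (𝟙 P₃)).left := by
    have e : (lift (𝟙 P₃) (𝟙 P₃)).left ≫ (fst P₃ P₃).left = 𝟙 _ := by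
      rw [← Over.comp_left, lift_fst]
      rfl
    have i1 : IsClosedImmersion ((lift (𝟙 P₃) (𝟙 P₃)).left ≫ (fst P₃ P₃).left) := by
      rw [e]
      infer_instance
    have i2 : IsSeparated (fst P₃ P₃).left := inferInstanceAs (IsSeparated (pullback.fst P₃.hom P₃.hom))
    exact IsClosedImmersion.of_comp _ (fst P₃ P₃).left
  exact MorphismProperty.of_isPullback ((isPullback_lift_diag sq).map (Over.forget S)).flip h1

/-- Properties of the fibre product of representing schemes. -/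
theorem exists_K [IsSeparated P₁.hom] [IsSeparated P₂.hom] [IsSeparated P₃.hom]
    [LocallyOfFiniteType P₁.hom] [LocallyOfFiniteType P₂.hom] (r₁ : P₁ ⟶ P₃) (r₂ : P₂ ⟶ P₃) :
    ∃ (K : Over S) (k₁ : K ⟶ P₁) (k₂ : K ⟶ P₂), IsPullback k₁ k₂ r₁ r₂ ∧ IsSeparated K.hom ∧
      LocallyOfFiniteType K.hom := by
  refine ⟨pullback r₁ r₂, pullback.fst r₁ r₂, pullback.snd r₁ r₂, IsPullback.of_hasPullback r₁ r₂, ?_⟩
  have sq : IsPullback (pullback.fst r₁ r₂).left (pullback.snd r₁ r₂).left r₁.left r₂.left :=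
    (IsPullback.of_hasPullback r₁ r₂).map (Over.forget S)
  have s1 : IsSeparated (r₂.left ≫ P₃.hom) := by rw [Over.w]; infer_instance
  have s2 : IsSeparated r₂.left := IsSeparated.of_comp r₂.left P₃.hom
  have s3 : LocallyOfFiniteType (r₂.left ≫ P₃.hom) := by rw [Over.w]; infer_instance
  have s4 : LocallyOfFiniteType r₂.left := locallyOfFiniteType_of_comp r₂.left P₃.hom
  have s5 : IsSeparated (pullback.fst r₁ r₂).left := MorphismProperty.of_isPullback sq.flip s2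
  have s6 : LocallyOfFiniteType (pullback.fst r₁ r₂).left := MorphismProperty.of_isPullback sq.flip s4
  refine ⟨?_, ?_⟩
  · rw [← Over.w (pullback.fst r₁ r₂)]
    infer_instance
  · rw [← Over.w (pullback.fst r₁ r₂)]
    infer_instance

end K

section main

variable {X X' Y Y' S : Scheme.{u}} {f : X ⟶ S} {f₁ : X' ⟶ S} {f₂ : Y ⟶ S} {f₃ : Y' ⟶ S}
  {b : X' ⟶ X} {i : Y ⟶ X} {i' : Y' ⟶ X'} {π' : Y' ⟶ Y}
  {hb : b ≫ f = f₁} {hi : i ≫ f = f₂} {hi' : i' ≫ f₁ = f₃} {hπ : π' ≫ f₂ = f₃}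

/-- **`Pic_X ⟶ Pic_{X'} × Pic_Y` is affine over a nonempty open**, from the exactness statements. -/
theorem genM2_of_sqExact [IsAffine S] [IsIntegral S] [IsLocallyNoetherian S] (w : i' ≫ b = π' ≫ i)
    (R : Rep f) (R₁ : Rep f₁) (R₂ : Rep f₂) (R₃ : Rep f₃) {ρ : ∀ T : Over S, (T ⟶ R₃.U) → Pic (PicF.XT f T)}
    (E : SqExact hb hi hi' hπ R₃ ρ) (h₁ : RGood f₁) (h₂ : RGood f₂) (h₃ : RGood f₃) :
    GenM2 @IsAffineHom b hb i hi := by
  obtain ⟨P₁, φ₁, hR₁⟩ := h₁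
  obtain ⟨P₂, φ₂, hR₂⟩ := h₂
  obtain ⟨P₃, φ₃, hR₃⟩ := h₃
  have hφ₁ := hR₁.rep
  have hφ₂ := hR₂.rep
  have hφ₃ := hR₃.rep
  have s₁ := hR₁.sep
  have s₂ := hR₂.sep
  have s₃ := hR₃.sep
  have l₁ := hR₁.lft
  have l₂ := hR₂.lft
  have l₃ := hR₃.lft
  obtain ⟨r₁, hr₁⟩ := exists_res i' hi' hφ₁ hφ₃
  obtain ⟨r₂, hr₂⟩ := exists_res π' hπ hφ₂ hφ₃
  obtain ⟨K, k₁, k₂, sq, sK, lK⟩ := exists_K r₁ r₂
  have comm : ∀ (T : Over S) (c : Pic (PicF.XT f T)), φ₁ T (pw b hb T c) ≫ r₁ = φ₂ T (pw i hi T c) ≫ r₂ := by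
    intro T c
    rw [hr₁, hr₂, pw_pw hb hi' hi hπ w]
  let π : ∀ T : Over S, Pic (PicF.XT f T) → (T ⟶ K) := fun T c => sq.lift _ _ (comm T c)
  have hπ₁ : ∀ (T : Over S) (c : Pic (PicF.XT f T)), π T c ≫ k₁ = φ₁ T (pw b hb T c) := fun T c =>
    sq.lift_fst _ _ _
  have hπ₂ : ∀ (T : Over S) (c : Pic (PicF.XT f T)), π T c ≫ k₂ = φ₂ T (pw i hi T c) := fun T c =>
    sq.lift_snd _ _ _
  have natπ : ∀ {T T' : Over S} (g : T' ⟶ T) (c : Pic (PicF.XT f T)), π T' (pu f g c) = g ≫ π T c := by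
    intro T T' g c
    apply sq.hom_ext
    · rw [hπ₁, pw_pu, hφ₁.nat, Category.assoc, hπ₁]
    · rw [hπ₂, pw_pu, hφ₂.nat, Category.assoc, hπ₂]
  obtain ⟨κ₁, hκ₁, hκ₁e⟩ := exists_resU hi' R₁ R₃
  obtain ⟨κ₂, hκ₂, hκ₂e⟩ := exists_resU hπ R₂ R₃
  have cm : IsCommMonObj R₃.U := VecGrp.Rep.isCommMonObj R₃
  obtain ⟨h, hh, hhe⟩ := exists_diff κ₁ κ₂
  have hhe' : ∀ (T : Over S) (a : T ⟶ R₁.U ⊗ R₂.U), R₃.e T (a ≫ h) =
      rU i' hi' T (R₁.e T (a ≫ fst _ _)) * (rU π' hπ T (R₂.e T (a ≫ snd _ _)))⁻¹ := by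
    intro T a
    rw [hhe, map_mul, map_inv, hκ₁e, hκ₂e]
  -- surjectivity over `K`
  have surjK : ∃ 𝒰 : ECov K, ∀ k, ∃ c : Pic (PicF.XT f (𝒰.V k)), π _ c = 𝒰.j k := by
    obtain ⟨𝒰, h𝒰⟩ := hφ₁.surj k₁
    obtain ⟨𝒱, h𝒱⟩ := hφ₂.surj k₂
    obtain ⟨𝒲, h𝒲⟩ := LemmaA.exists_inter 𝒰 𝒱
    have key : ∀ j : 𝒲.ι, ∃ (c' : Pic (PicF.XT f₁ (𝒲.V j))) (d : Pic (PicF.XT f₂ (𝒲.V j))),
        φ₁ _ c' = 𝒲.j j ≫ k₁ ∧ φ₂ _ d = 𝒲.j j ≫ k₂ := by
      intro j
      obtain ⟨⟨k, s, hs⟩, ⟨k', s', hs'⟩⟩ := h𝒲 j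
      obtain ⟨c', hc'⟩ := h𝒰 k
      obtain ⟨d, hd⟩ := h𝒱 k'
      refine ⟨pu f₁ s c', pu f₂ s' d, ?_, ?_⟩
      · rw [hφ₁.nat, hc', ← Category.assoc, hs]
      · rw [hφ₂.nat, hd, ← Category.assoc, hs']
    choose c' d hc' hd using key
    have loc : ∀ j : 𝒲.ι, LocEq f₃ (𝒲.V j) (pw i' hi' _ (c' j)) (pw π' hπ _ (d j)) := by
      intro j
      apply hφ₃.inj
      rw [← hr₁, ← hr₂, hc', hd, Category.assoc, Category.assoc, sq.w]
    choose 𝒵 h𝒵 using loc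
    refine ⟨LocEq.bind 𝒲 𝒵, fun l => ?_⟩
    have e1 := 𝒲.isEtale l.1
    have e2 := (𝒵 l.1).isEtale l.2
    have lft : LocallyOfFiniteType ((𝒵 l.1).V l.2).hom := by
      rw [← Over.w ((𝒵 l.1).j l.2), ← Over.w (𝒲.j l.1)]
      infer_instance
    obtain ⟨c, hc, hc₂⟩ := E.surj lft (pu f₁ ((𝒵 l.1).j l.2) (c' l.1)) (pu f₂ ((𝒵 l.1).j l.2) (d l.1)) (by
      rw [pw_pu, pw_pu]
      exact h𝒵 l.1 l.2)
    refine ⟨c, ?_⟩
    change π _ c = (𝒵 l.1).j l.2 ≫ 𝒲.j l.1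
    apply sq.hom_ext
    · rw [hπ₁, hc, hφ₁.nat, hc', Category.assoc]
    · rw [hπ₂, hc₂, hφ₂.nat, hd, Category.assoc]
  have pre : Pre f h π ρ := by
    refine { natπ := natπ, surjπ := ?_, natρ := ?_, ker := ?_, actπ := ?_, trans := ?_ }
    · intro T g
      obtain ⟨𝒰, h𝒰⟩ := surjK
      obtain ⟨𝒱, h𝒱⟩ := LemmaA.exists_pull 𝒰 g
      refine ⟨𝒱, fun j => ?_⟩
      obtain ⟨k, s, hs⟩ := h𝒱 j
      obtain ⟨c, hc⟩ := h𝒰 k
      exact ⟨pu f s c, by rw [natπ, hc, hs]⟩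
    · intro T T' g r
      rw [E.nat]
      exact LocEq.refl _
    · intro T x y
      constructor
      · rintro ⟨𝒰, h𝒰⟩
        refine ⟨𝒰, fun j => ?_⟩
        have h1 := h𝒰 j
        rw [← E.nat, ← E.nat, E.ker] at h1
        obtain ⟨u, v, huv⟩ := h1
        refine ⟨lift ((R₁.e _).symm u) ((R₂.e _).symm v), ?_⟩
        apply (R₃.e _).injective
        rw [map_mul, hhe', lift_fst, lift_snd, MulEquiv.apply_symm_apply, MulEquiv.apply_symm_apply]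
        exact huv
      · rintro ⟨𝒰, h𝒰⟩
        refine ⟨𝒰, fun j => ?_⟩
        rw [← E.nat, ← E.nat, E.ker]
        obtain ⟨r, hr⟩ := h𝒰 j
        refine ⟨R₁.e _ (r ≫ fst _ _), R₂.e _ (r ≫ snd _ _), ?_⟩
        rw [hr, map_mul, hhe']
    · intro T c r
      apply sq.hom_ext
      · rw [hπ₁, hπ₁, map_mul, E.left, _root_.mul_one]
      · rw [hπ₂, hπ₂, map_mul, E.right, _root_.mul_one]
    · intro T c c' hc
      have h1 : φ₁ T (pw b hb T c) = φ₁ T (pw b hb T c') := by rw [← hπ₁, ← hπ₁, hc]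
      have h2 : φ₂ T (pw i hi T c) = φ₂ T (pw i hi T c') := by rw [← hπ₂, ← hπ₂, hc]
      obtain ⟨𝒰, h𝒰⟩ := hφ₁.inj h1
      obtain ⟨𝒱, h𝒱⟩ := hφ₂.inj h2
      obtain ⟨𝒲, h𝒲⟩ := LemmaA.exists_inter 𝒰 𝒱
      refine ⟨𝒲, fun j => ?_⟩
      obtain ⟨⟨k, s, hs⟩, ⟨k', s', hs'⟩⟩ := h𝒲 j
      obtain ⟨r, hr⟩ := E.exact ((pu f (𝒲.j j) c)⁻¹ * pu f (𝒲.j j) c') (by
        rw [map_mul, map_inv, pw_pu, pw_pu, ← hs, pu_comp, pu_comp, h𝒰, inv_mul_cancel]) (by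
        rw [map_mul, map_inv, pw_pu, pw_pu, ← hs', pu_comp, pu_comp, h𝒱, inv_mul_cancel])
      refine ⟨r, ?_⟩
      rw [hr, mul_inv_cancel_left]
      exact LocEq.refl _
  obtain ⟨ν₁, hν₁, hν₁e⟩ := exists_resU hb R R₁
  obtain ⟨ν₂, hν₂, hν₂e⟩ := exists_resU hi R R₂
  have hker : AlgGrp.IsKernel (lift ν₁ ν₂) h := by
    refine UnitMap.isKernel_of_points (lift ν₁ ν₂) h ?_ ?_
    · intro T x y hxy
      apply (R.e T).injective
      refine E.inj _ _ ?_ ?_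
      · rw [← hν₁e, ← hν₁e]
        have h1 := congrArg (fun z => z ≫ fst _ _) hxy
        simp only [Category.assoc, lift_fst] at h1
        rw [h1]
      · rw [← hν₂e, ← hν₂e]
        have h1 := congrArg (fun z => z ≫ snd _ _) hxy
        simp only [Category.assoc, lift_snd] at h1
        rw [h1]
    · intro T c
      constructor
      · intro hc
        have h1 := hhe' T c
        rw [hc, map_one, eq_comm, mul_inv_eq_one] at h1
        obtain ⟨z, hz₁, hz₂⟩ := E.units _ _ h1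
        refine ⟨(R.e T).symm z, ?_⟩
        ext1
        · rw [Category.assoc, lift_fst]
          apply (R₁.e T).injective
          rw [hν₁e, MulEquiv.apply_symm_apply, hz₁]
        · rw [Category.assoc, lift_snd]
          apply (R₂.e T).injective
          rw [hν₂e, MulEquiv.apply_symm_apply, hz₂]
      · rintro ⟨a, rfl⟩
        apply (R₃.e T).injective
        rw [hhe', map_one, mul_inv_eq_one, Category.assoc, Category.assoc, lift_fst, lift_snd, hν₁e, hν₂e]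
        apply Units.ext
        simp only [rU_val]
        have h2 := mT_comp_congr hb hi' hi hπ w T
        have h3 := congrArg Scheme.Hom.appTop h2
        rw [Scheme.Hom.comp_appTop, Scheme.Hom.comp_appTop] at h3
        exact congr(($h3).hom ((R.e T a : Γ(PicF.XT f T, ⊤)ˣ) : Γ(PicF.XT f T, ⊤)))
  have s1 : Smooth (R₁.U ⊗ R₂.U).hom :=
    inferInstanceAs (Smooth (pullback.fst R₁.U.hom R₂.U.hom ≫ R₁.U.hom))
  have s2 : IsAffineHom (R₁.U ⊗ R₂.U).hom :=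
    MorphismProperty.comp_mem (W := @IsAffineHom) (pullback.fst R₁.U.hom R₂.U.hom) R₁.U.hom
      (MorphismProperty.pullback_fst _ _ R₂.affine) R₁.affine
  obtain ⟨V, hV, hV'⟩ := exists_of_pre pre (exists_smQuot h (lift ν₁ ν₂) hker)
  obtain ⟨A, φ, r, hA1, hA2, hA3⟩ := hV' V le_rfl
  have sqV : IsPullback ((Over.pullback V.ι).map k₁) ((Over.pullback V.ι).map k₂) ((Over.pullback V.ι).map r₁)
    ((Over.pullback V.ι).map r₂) := sq.map (Over.pullback V.ι)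
  have s3 : IsSeparated ((Over.pullback V.ι).obj P₃).hom :=
    inferInstanceAs (IsSeparated (pullback.snd P₃.hom V.ι))
  have hci : IsClosedImmersion (lift ((Over.pullback V.ι).map k₁) ((Over.pullback V.ι).map k₂)).left :=
    isClosedImmersion_lift sqV
  refine ⟨V, hV, A, Red.bc V.ι P₁, Red.bc V.ι P₂, φ, _, _, hA1, hR₁.bc (IsPullback.of_hasPullback f₁ V.ι),
    hR₂.bc (IsPullback.of_hasPullback f₂ V.ι), r ≫ (Over.pullback V.ι).map k₁, r ≫ (Over.pullback V.ι).map k₂,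
    ?_, ?_, ?_⟩
  · intro T c
    rw [← Category.assoc]
    have e1 : φ T c ≫ r = bcEquiv V.ι T K (π _ (tr (IsPullback.of_hasPullback f V.ι) T c)) := hA2 T c
    rw [e1, ← bcEquiv_comp, hπ₁]
    congr 2
    exact (tr_pw hb (mT_snd b hb (Over.mk V.ι)) (IsPullback.of_hasPullback f₁ V.ι)
      (IsPullback.of_hasPullback f V.ι) (mT_fst b hb _) T c).symm
  · intro T c
    rw [← Category.assoc]
    have e1 : φ T c ≫ r = bcEquiv V.ι T K (π _ (tr (IsPullback.of_hasPullback f V.ι) T c)) := hA2 T c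
    rw [e1, ← bcEquiv_comp, hπ₂]
    congr 2
    exact (tr_pw hi (mT_snd i hi (Over.mk V.ι)) (IsPullback.of_hasPullback f₂ V.ι)
      (IsPullback.of_hasPullback f V.ι) (mT_fst i hi _) T c).symm
  · rw [← comp_lift, Over.comp_left]
    infer_instance

/-- **The rule `sq` after shrinking.** -/
theorem genM2_of_patch [IsAffine S] [IsIntegral S] [IsLocallyNoetherian S] [LocallyOfFiniteType f] [IsProper b]
    [IsClosedImmersion i] (hb : b ≫ f = f₁) (hi : i ≫ f = f₂) (hi' : i' ≫ f₁ = f₃) (hπ : π' ≫ f₂ = f₃)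
    (H : IsPullback i' π' b i) (h : IsPatch b i.ker)
    (hbc : IsAffineHom b ∨ BlowUp.IsEffCartierIdeal (i.ker.comap b))
    (c : H943.CF f) (c₁ : H943.CF f₁) (c₂ : H943.CF f₂) (c₃ : H943.CF f₃)
    (h₁ : RGood f₁) (h₂ : RGood f₂) (h₃ : RGood f₃) : GenM2 @IsAffineHom b hb i hi := by
  have a₁ := c₁.flat
  have a₂ := c₂.flat
  have a₃ := c₃.flat
  obtain ⟨R⟩ := UnitGrp.exists_rep _ c
  obtain ⟨R₁⟩ := UnitGrp.exists_rep _ c₁
  obtain ⟨R₂⟩ := UnitGrp.exists_rep _ c₂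
  obtain ⟨R₃⟩ := UnitGrp.exists_rep _ c₃
  obtain ⟨ρ, E⟩ := exists_sqExact hb hi hi' hπ H (isPatch_T hb hi hi' H h hbc) R₃
  exact genM2_of_sqExact H.w R R₁ R₂ R₃ E h₁ h₂ h₃

/-- The rule `sq` for an abstract square. -/
theorem genM2_sq (AR : AllR.{u}) [IsNoetherian S] [IsIntegral S] [IsProper f] [IsProper b] [IsClosedImmersion i]
    (hb : b ≫ f = f₁) (hi : i ≫ f = f₂)
    (H : IsPullback i' π' b i) (h : IsPatch b i.ker)
    (hbc : IsAffineHom b ∨ BlowUp.IsEffCartierIdeal (i.ker.comap b)) : GenM2 @IsAffineHom b hb i hi := by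
  have p' : IsClosedImmersion i' := MorphismProperty.of_isPullback H.flip inferInstance
  have p₁ : IsProper f₁ := by rw [← hb]; infer_instance
  have p₂ : IsProper f₂ := by rw [← hi]; infer_instance
  obtain ⟨f₃, hi'⟩ : ∃ f₃, i' ≫ f₁ = f₃ := ⟨_, rfl⟩
  have hπ : π' ≫ f₂ = f₃ := by rw [← hi', ← hb, ← hi, ← Category.assoc, ← H.w, Category.assoc]
  have p₃ : IsProper f₃ := by rw [← hi']; infer_instance
  obtain ⟨V₁, n₁, g₁⟩ := (AR f₁).exists_le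
  obtain ⟨V₂, n₂, g₂⟩ := (AR f₂).exists_le
  obtain ⟨V₃, n₃, g₃⟩ := (AR f₃).exists_le
  obtain ⟨C, nC, c⟩ := H943.exists_cf f
  obtain ⟨C₁, nC₁, c₁⟩ := H943.exists_cf f₁
  obtain ⟨C₂, nC₂, c₂⟩ := H943.exists_cf f₂
  obtain ⟨C₃, nC₃, c₃⟩ := H943.exists_cf f₃
  obtain ⟨x, hx⟩ := exists_inter n₁ (exists_inter n₂ (exists_inter n₃ (exists_inter nC (exists_inter nC₁
    (exists_inter nC₂ nC₃)))))
  obtain ⟨V, hV, hxV, hle⟩ := exists_isAffineOpen_mem_and_subset hx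
  have l₁ : V ≤ V₁ := fun y hy => (hle hy).1
  have l₂ : V ≤ V₂ := fun y hy => (hle hy).2.1
  have l₃ : V ≤ V₃ := fun y hy => (hle hy).2.2.1
  have l₄ : V ≤ C := fun y hy => (hle hy).2.2.2.1
  have l₅ : V ≤ C₁ := fun y hy => (hle hy).2.2.2.2.1
  have l₆ : V ≤ C₂ := fun y hy => (hle hy).2.2.2.2.2.1
  have l₇ : V ≤ C₃ := fun y hy => (hle hy).2.2.2.2.2.2
  have a1 : IsAffine V.toScheme := hV
  have : Nonempty V.toScheme := ⟨⟨x, hxV⟩⟩
  have a2 : IsIntegral V.toScheme := inferInstance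
  let T : Over S := Over.mk V.ι
  have a3 : Flat T.hom := inferInstanceAs (Flat V.ι)
  have pb : IsProper (mT b hb T) := MorphismProperty.of_isPullback (isPullback_mT b hb T).flip inferInstance
  have ci : IsClosedImmersion (mT i hi T) := isClosedImmersion_T hi T
  have a4 : IsAffine T.left := hV
  have a5 : IsIntegral T.left := a2
  have a6 : IsLocallyNoetherian T.left := inferInstanceAs (IsLocallyNoetherian V.toScheme)
  have key : GenM2 @IsAffineHom (mT b hb T) (mT_snd b hb T) (mT i hi T) (mT_snd i hi T) :=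
    genM2_of_patch (mT_snd b hb T) (mT_snd i hi T) (mT_snd i' hi' T) (mT_snd π' hπ T)
      (isPullback_T hb hi hi' hπ H T) (isPatch_open hb hi h T) (cond_open hb hi hbc T) (c V l₄ hV) (c₁ V l₅ hV)
      (c₂ V l₆ hV) (c₃ V l₇ hV) (g₁ V l₁) (g₂ V l₂) (g₃ V l₃)
  exact GenM2.of_open (t₁ := V.ι) key (IsPullback.of_hasPullback f₁ V.ι) (IsPullback.of_hasPullback f₂ V.ι)
    (IsPullback.of_hasPullback f V.ι) (mT_fst b hb T) (mT_fst i hi T)

end main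

end K60.SqM
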