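import Groth.Agent.S1284
import Groth.Agent.Flat2C.TorsIdeal
import Groth.Agent.Flat2C.BlowProper
import Groth.Agent.S2080
import Groth.Agent.CohqA.IntClosed
import Groth.Agent.Pic13.K60.GenM
import Groth.Agent.Pic13.H943.ExistsCF
import Groth.Agent.Pic13.K60.GenFlf

/-!
# Flattening proper surjective morphisms

`exists_flf_blowup`: for `h : W ⟶ Z` proper surjective, `Z` integral Noetherian, there are a blow-up `b : Z' ⟶ Z` and a
finite flat surjective `X' ⟶ Z'` with a morphism `X' ⟶ W` over `b`.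
-/

set_option autoImplicit false
universe u

open CategoryTheory CategoryTheory.Limits AlgebraicGeometry TopologicalSpace
open Groth.Agent Groth.Agent.Flat2C.TorsIdeal

namespace K60.Strict

/-- A closed integral subscheme which is generically finite over the base. -/
theorem exists_genFin {W Z : Scheme.{u}} (h : W ⟶ Z) [IsProper h] [IsIntegral Z] [Surjective h] :
    ∃ (W₁ : Scheme.{u}) (i : W₁ ⟶ W), IsClosedImmersion i ∧ IsIntegral W₁ ∧ Surjective (i ≫ h) ∧
      ((i ≫ h).base ⁻¹' {genericPoint Z}).Finite := by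
  let z := genericPoint Z
  obtain ⟨w₀, hw₀⟩ := h.surjective z
  have hne : Nonempty (h.fiber z) := by
    have h1 : w₀ ∈ Set.range (h.fiberι z) := by
      rw [h.range_fiberι]
      exact hw₀
    obtain ⟨y, -⟩ := h1
    exact ⟨y⟩
  have hc : CompactSpace (h.fiber z) := QuasiCompact.compactSpace_of_compactSpace (h.fiberToSpecResidueField z)
  obtain ⟨x, -, hx⟩ := (isClosed_univ (X := h.fiber z)).exists_closed_singleton Set.univ_nonempty
  obtain ⟨W₁, i, hi, hW, hiw⟩ := CohqA.IntClosed.exists_integral (h.fiberι z x)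
  have hzx : h (h.fiberι z x) = z := by
    have h1 : h.fiberι z x ∈ Set.range (h.fiberι z) := ⟨x, rfl⟩
    rw [h.range_fiberι] at h1
    exact h1
  refine ⟨W₁, i, hi, hW, ?_, ?_⟩
  · constructor
    rw [← Set.range_eq_univ]
    have hcl : IsClosed (Set.range (i ≫ h)) := (i ≫ h).isClosedMap.isClosed_range
    have h1 : genericPoint Z ∈ Set.range (i ≫ h) := ⟨genericPoint W₁, by
      rw [Scheme.Hom.comp_apply, hiw, hzx]⟩
    exact Set.eq_univ_of_univ_subset ((genericPoint_spec Z).mem_closed_set_iff hcl |>.1 h1)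
  · refine (Set.finite_singleton (genericPoint W₁)).subset ?_
    intro y hy
    have hy' : h (i y) = z := by
      have : (i ≫ h) y = z := hy
      rwa [Scheme.Hom.comp_apply] at this
    have h1 : i y ∈ Set.range (h.fiberι z) := by
      rw [h.range_fiberι]
      exact hy'
    obtain ⟨t, ht⟩ := h1
    have h2 : h.fiberι z x ⤳ h.fiberι z t := by
      rw [ht, ← hiw]
      exact (genericPoint_specializes y).map i.continuous
    have h3 : x ⤳ t := (h.fiberι z).isEmbedding.isInducing.specializes_iff.1 h2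
    have h4 : t = x := h3.mem_closed hx (Set.mem_singleton x)
    apply i.injective
    rw [← ht, h4, hiw]

/-- Finite locally free over a nonempty open. -/
theorem exists_open {W Z : Scheme.{u}} (h : W ⟶ Z) [IsProper h] [IsIntegral Z] [IsNoetherian Z]
    (hfin : (h.base ⁻¹' {genericPoint Z}).Finite) :
    ∃ U : Z.Opens, (U : Set Z).Nonempty ∧ Mor2.IsFinLocFree (h ∣_ U) := by
  have hgen : closure {genericPoint Z} ∈ irreducibleComponents Z := by
    rw [(genericPoint_spec Z).def, irreducibleComponents_eq_singleton]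
    rfl
  obtain ⟨V₁, hV₁, hz, hf⟩ := (Groth.Agent.S2080.result h (genericPoint Z) hgen).1 hfin
  obtain ⟨V₂, n₂, c₂⟩ := Pic13.H943.exists_cf h
  obtain ⟨U, hU, hle, hUa⟩ := K60.FlfQC.exists_affine_le
    (K60.MGood.exists_inter (V := V₁) (W := V₂) ⟨_, hz⟩ n₂)
  have hle₁ : U ≤ V₁ := fun y hy => (hle hy).1
  have hle₂ : U ≤ V₂ := fun y hy => (hle hy).2
  have e : ∀ O : Z.Opens, h ∣_ O = (pullbackRestrictIsoRestrict h O).inv ≫ pullback.snd h O.ι := fun _ => rfl
  have f1 : IsFinite (pullback.snd h V₁.ι) := by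
    rw [e, MorphismProperty.cancel_left_of_respectsIso @IsFinite] at hf
    exact hf
  obtain ⟨v, hv, -⟩ := K60.MGood.isPullback_lift (IsPullback.of_hasPullback h V₁.ι) (IsPullback.of_hasPullback h U.ι)
    (Z.homOfLE hle₁) (Z.homOfLE_ι hle₁)
  have f2 : IsFinite (pullback.snd h U.ι) := MorphismProperty.of_isPullback hv f1
  have f3 : Flat (pullback.snd h U.ι) := (c₂ U hle₂ hUa).flat
  have f4 : LocallyOfFinitePresentation (pullback.snd h U.ι) := inferInstance
  refine ⟨U, hU, ?_, ?_, ?_⟩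
  · rw [e, MorphismProperty.cancel_left_of_respectsIso @IsFinite]
    exact f2
  · rw [e, MorphismProperty.cancel_left_of_respectsIso @Flat]
    exact f3
  · rw [e, MorphismProperty.cancel_left_of_respectsIso @LocallyOfFinitePresentation]
    exact f4

/-- **Flattening.** -/
theorem exists_flf_blowup {W Z : Scheme.{u}} (h : W ⟶ Z) [IsProper h] [IsIntegral Z] [IsNoetherian Z] [Surjective h] :
    ∃ (I : Z.IdealSheafData) (Z' X' : Scheme.{u}) (b : Z' ⟶ Z) (f' : X' ⟶ Z') (x : X' ⟶ W),
      BlowUp.IsBlowUp b I ∧ IsProper b ∧ (I.support : Set Z) ≠ Set.univ ∧ IsFinite f' ∧ Flat f' ∧ Surjective f' ∧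
      x ≫ h = f' ≫ b := by
  obtain ⟨W₁, i, hi, hW, hs, hfin⟩ := exists_genFin h
  obtain ⟨U, ⟨y₀, hy₀⟩, hU⟩ := exists_open (i ≫ h) hfin
  obtain ⟨I, Z', b, hb, hadm, hstr⟩ := Groth.Agent.S1284.result (i ≫ h) U
    ((TopologicalSpace.NoetherianSpace.isCompact _)) hU
  let p₁ := pullback.fst (i ≫ h) b
  let p₂ := pullback.snd (i ≫ h) b
  have hE : BlowUp.IsFiniteTypeIdeal ((I.comap (i ≫ h)).comap p₁) :=
    isFiniteTypeIdeal_comap (isFiniteTypeIdeal_comap hadm.1 _) _
  obtain ⟨J, hJ⟩ := exists_isTorsIdeal hE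
  obtain ⟨g1, g2, g3⟩ := hstr _ p₁ p₂ (IsPullback.of_hasPullback (i ≫ h) b) J hJ
  have hbp : IsProper b := Flat2C.BlowProper.isProper_of_isBlowUp hb hadm.1
  refine ⟨I, Z', J.subscheme, b, J.subschemeι ≫ p₂, J.subschemeι ≫ p₁ ≫ i, hb, hbp, ?_, g1, g2, ?_, ?_⟩
  · intro he
    have h1 : y₀ ∈ (I.support : Set Z) := by
      rw [he]
      trivial
    exact Set.disjoint_left.1 hadm.2 h1 hy₀
  · constructor
    rw [← Set.range_eq_univ]
    have hcl : IsClosed (Set.range (J.subschemeι ≫ p₂)) := (J.subschemeι ≫ p₂).isClosedMap.isClosed_range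
    have hsub : (compl (I.comap b) : Set Z') ⊆ Set.range (J.subschemeι ≫ p₂) := by
      intro z' hz'
      obtain ⟨w₁, hw₁⟩ := (i ≫ h).surjective (b z')
      obtain ⟨x', hx₁, hx₂⟩ := Scheme.Pullback.exists_preimage_pullback (f := i ≫ h) (g := b) w₁ z' hw₁
      have hxc : x' ∈ compl ((I.comap (i ≫ h)).comap p₁) := by
        rw [← Scheme.IdealSheafData.comap_comp, pullback.condition, Scheme.IdealSheafData.comap_comp, compl_comap]
        change p₂ x' ∈ compl (I.comap b)
        rw [show p₂ x' = z' from hx₂]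
        exact hz'
      have h1 := hJ.mem_support hxc
      have h2 : x' ∈ Set.range J.subschemeι := by
        rw [Scheme.IdealSheafData.range_subschemeι]
        exact h1
      obtain ⟨t, ht⟩ := h2
      exact ⟨t, by rw [Scheme.Hom.comp_apply, ht]; exact hx₂⟩
    rw [← hcl.closure_eq]
    exact Set.eq_univ_of_univ_subset ((dense_compl hb.1).closure_eq ▸ closure_mono hsub)
  · rw [Category.assoc, Category.assoc, Category.assoc, ← pullback.condition]

end K60.Strict
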