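import Groth.Agent.Pic13.K60.NilMain
import Groth.Agent.Pic13.K60.SqM
import Groth.Agent.Pic13.K60.Strict
import Groth.Agent.Pic13.H955.UnionPatch
import Groth.Agent.Pic13.H17.BlowPatch
import Groth.Agent.Ega1.ReducedSub

/-!
# Quasi-compactness of `Pic_Y ⟶ Pic_X`

`genM_qc`: for a surjective `f : X ⟶ Y` of proper schemes over an integral Noetherian base, the morphism `Pic_Y ⟶ Pic_X`
is quasi-compact over a nonempty open of the base.
-/

set_option autoImplicit false
universe u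

open CategoryTheory CategoryTheory.Limits AlgebraicGeometry TopologicalSpace
open Groth.Agent Groth.Agent.Pic13 Groth.Agent.Pic13.H547 Groth.Agent.Pic13.H508.SqMT
open K60.MGood K60.FlfQC K60.NilMain K60.SqM K60.Strict

namespace K60.QCInd

section two

variable {Q Q' : MorphismProperty Scheme.{u}} {A₁ A₂ B S : Scheme.{u}} {f₁ : A₁ ⟶ S} {f₂ : A₂ ⟶ S} {f : B ⟶ S}
  {q₁ : A₁ ⟶ B} {h₁ : q₁ ≫ f = f₁} {q₂ : A₂ ⟶ B} {h₂ : q₂ ≫ f = f₂}

theorem MGood2.mono (hM : MGood2 Q q₁ h₁ q₂ h₂) (hQ : Q ≤ Q') : MGood2 Q' q₁ h₁ q₂ h₂ := by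
  obtain ⟨P, P₁, P₂, φ, φ₁, φ₂, hP, hP₁, hP₂, r₁, r₂, hr₁, hr₂, h⟩ := hM
  exact ⟨P, P₁, P₂, φ, φ₁, φ₂, hP, hP₁, hP₂, r₁, r₂, hr₁, hr₂, hQ _ h⟩

theorem GenM2.mono (hM : GenM2 Q q₁ h₁ q₂ h₂) (hQ : Q ≤ Q') : GenM2 Q' q₁ h₁ q₂ h₂ := by
  obtain ⟨V, hV, h⟩ := hM
  exact ⟨V, hV, MGood2.mono h hQ⟩

lemma affine_le_qc : @IsAffineHom.{u} ≤ @QuasiCompact := fun _ _ _ h => by
  have := h
  infer_instance

end two

section step

variable {S Y X Y' Z X' W : Scheme.{u}} {g : Y ⟶ S} {p : X ⟶ S} {g' : Y' ⟶ S} {gZ : Z ⟶ S} {p' : X' ⟶ S}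
  {pW : W ⟶ S} {f : X ⟶ Y} {hf : f ≫ g = p} {b : Y' ⟶ Y} {hb : b ≫ g = g'} {i : Z ⟶ Y} {hi : i ≫ g = gZ}
  {f' : X' ⟶ Y'} {hf' : f' ≫ g' = p'} {fW : W ⟶ Z} {hW : fW ≫ gZ = pW}

theorem genM_qc_of_two [IrreducibleSpace S] (h2 : GenM2 @QuasiCompact b hb i hi) (h' : GenM @QuasiCompact f' hf')
    (hZ : GenM @QuasiCompact fW hW) (hX : GenR p) (x' : X' ⟶ X) (hx' : x' ≫ f = f' ≫ b) (xW : W ⟶ X)
    (hxW : xW ≫ f = fW ≫ i) : GenM @QuasiCompact f hf := by
  have ex' : x' ≫ p = p' := by rw [← hf, ← Category.assoc, hx', Category.assoc, hb, hf']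
  have exW : xW ≫ p = pW := by rw [← hf, ← Category.assoc, hxW, Category.assoc, hi, hW]
  obtain ⟨V₁, n₁, g₁⟩ := h2.exists_le
  obtain ⟨V₂, n₂, g₂⟩ := h'.exists_le
  obtain ⟨V₃, n₃, g₃⟩ := hZ.exists_le
  obtain ⟨V₄, n₄, g₄⟩ := hX.exists_le
  refine ⟨V₁ ⊓ (V₂ ⊓ (V₃ ⊓ V₄)), exists_inter n₁ (exists_inter n₂ (exists_inter n₃ n₄)), ?_⟩
  refine qc_of_two (g₁ _ inf_le_left) (g₂ _ (inf_le_right.trans inf_le_left))
    (g₃ _ (inf_le_right.trans (inf_le_right.trans inf_le_left)))
    (g₄ _ (inf_le_right.trans (inf_le_right.trans inf_le_right))) (mT x' ex' _) ?_ (mT xW exW _) ?_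
  · exact mT_comp_congr hf ex' hb hf' hx' _
  · exact mT_comp_congr hf exW hi hW hxW _

end step

/-- The inductive statement. -/
def PP {Y₀ S : Scheme.{u}} (g : Y₀ ⟶ S) (C : Closeds Y₀) : Prop :=
  ∀ (Z : Scheme.{u}) (i : Z ⟶ Y₀) [IsClosedImmersion i], Set.range i = (C : Set Y₀) →
    ∀ (gZ : Z ⟶ S), i ≫ g = gZ → ∀ (X : Scheme.{u}) (f : X ⟶ Z) [IsProper f] [Surjective f] (p : X ⟶ S)
      (hf : f ≫ gZ = p), GenM @QuasiCompact f hf

section induction

variable {Y₀ S Z : Scheme.{u}} [IsNoetherian S] [IsIntegral S] {g : Y₀ ⟶ S} [IsProper g] {C : Closeds Y₀}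

/-- The induction hypothesis for a closed subscheme with smaller support. -/
theorem use_ih (ih : ∀ D < C, PP g D) {i : Z ⟶ Y₀} [IsClosedImmersion i]
    (hi : Set.range i = (C : Set Y₀)) {gZ : Z ⟶ S} (h : i ≫ g = gZ) {W : Scheme.{u}} (j : W ⟶ Z) [IsClosedImmersion j]
    (hj : Set.range j ≠ Set.univ) {X : Scheme.{u}} (f : X ⟶ W) [IsProper f] [Surjective f] {gW : W ⟶ S}
    (hW : j ≫ gZ = gW) {p : X ⟶ S} (hf : f ≫ gW = p) : GenM @QuasiCompact f hf := by
  have hr : Set.range (j ≫ i) = i '' Set.range j := by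
    rw [Scheme.Hom.comp_base, TopCat.coe_comp, Set.range_comp]
  refine ih ⟨Set.range (j ≫ i), (j ≫ i).isClosedEmbedding.isClosed_range⟩ ?_ W (j ≫ i) rfl gW
    (by rw [Category.assoc, h, hW]) X f p hf
  refine lt_of_le_of_ne ?_ ?_
  · intro y hy
    change y ∈ Set.range (j ≫ i) at hy
    rw [hr] at hy
    rw [← SetLike.mem_coe, ← hi]
    exact Set.image_subset_range _ _ hy
  · intro he
    apply hj
    have h1 : i '' Set.range j = i '' Set.univ := by
      rw [← hr, Set.image_univ, hi]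
      exact congrArg SetLike.coe he
    exact i.isClosedEmbedding.injective.image_injective h1

/-- The reduced case. -/
theorem step_reduced (ih : ∀ D < C, PP g D) [IsReduced Z] (i : Z ⟶ Y₀) [IsClosedImmersion i]
    (hi : Set.range i = (C : Set Y₀)) {gZ : Z ⟶ S} (h : i ≫ g = gZ) {X : Scheme.{u}} (f : X ⟶ Z) [IsProper f]
    [Surjective f] {p : X ⟶ S} (hf : f ≫ gZ = p) : GenM @QuasiCompact f hf := by
  have pZ : IsProper gZ := by rw [← h]; infer_instance
  have pX : IsProper p := by rw [← hf]; infer_instance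
  have nZ : IsLocallyNoetherian Z := LocallyOfFiniteType.isLocallyNoetherian gZ
  have cZ : CompactSpace Z := QuasiCompact.compactSpace_of_compactSpace gZ
  have nZ' : IsNoetherian Z := {}
  rcases isEmpty_or_nonempty Z with hE | hN
  · exact GenM.of_isIso (allR _) (allR _)
  by_cases hirr : PreirreducibleSpace Z
  · have hirr' : IrreducibleSpace Z := { toNonempty := hN }
    have hint : IsIntegral Z := isIntegral_of_irreducibleSpace_of_isReduced Z
    obtain ⟨I, Z', X', b, f', x, hb, hbp, hI, hf'₁, hf'₂, hf'₃, hx⟩ := exists_flf_blowup f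
    obtain ⟨n, hn, hpatch⟩ := H17.BlowPatch.isPatch_of_isBlowUp hb
    have hsupp : ((I ^ n).support : Set Z) ≠ Set.univ := by
      rwa [Scheme.IdealSheafData.support_pow _ _ hn.ne']
    have hcar : BlowUp.IsEffCartierIdeal ((I ^ n).comap b) := by
      rw [Groth.Agent.Divis.IdealComap.comap_pow]
      exact Groth.Agent.Sga2.ThickCoh.isEffCartierIdeal_pow hb.1 n
    have hgen2 : GenM2 @IsAffineHom b (rfl : b ≫ gZ = b ≫ gZ) (I ^ n).subschemeι rfl :=
      genM2_sq allR rfl rfl (IsPullback.of_hasPullback b (I ^ n).subschemeι)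
        (by rw [Scheme.IdealSheafData.ker_subschemeι]; exact hpatch n le_rfl)
        (Or.inr (by rw [Scheme.IdealSheafData.ker_subschemeι]; exact hcar))
    have pX' : IsProper (f' ≫ b ≫ gZ) := inferInstance
    have hgen' : GenM @QuasiCompact f' (rfl : f' ≫ (b ≫ gZ) = f' ≫ b ≫ gZ) := genM_flf allR rfl
    refine genM_qc_of_two (GenM2.mono hgen2 affine_le_qc) hgen' (fW := pullback.snd f (I ^ n).subschemeι)
      (hW := rfl) (use_ih ih hi h (I ^ n).subschemeι ?_ _ rfl rfl) (allR p) x hx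
      (pullback.fst f (I ^ n).subschemeι) pullback.condition
    rwa [Scheme.IdealSheafData.range_subschemeι]
  · replace hirr : ¬ IsPreirreducible (Set.univ : Set Z) := fun h => hirr ⟨h⟩
    rw [isPreirreducible_iff_isClosed_union_isClosed] at hirr
    push Not at hirr
    obtain ⟨C₁, C₂, hC₁, hC₂, hu, hn₁, hn₂⟩ := hirr
    let I : Z.IdealSheafData := Scheme.IdealSheafData.vanishingIdeal ⟨C₁, hC₁⟩
    let J : Z.IdealSheafData := Scheme.IdealSheafData.vanishingIdeal ⟨C₂, hC₂⟩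
    have hI : (I.support : Set Z) = C₁ := Scheme.IdealSheafData.coe_support_vanishingIdeal _
    have hJ : (J.support : Set Z) = C₂ := Scheme.IdealSheafData.coe_support_vanishingIdeal _
    have hIJ : I ⊓ J = ⊥ := by
      have e1 : I ⊓ J = Scheme.IdealSheafData.vanishingIdeal ((⟨C₁, hC₁⟩ : Closeds Z) ⊔ ⟨C₂, hC₂⟩) :=
        (Scheme.IdealSheafData.vanishingIdeal_sup _ _).symm
      have e2 : ((⟨C₁, hC₁⟩ : Closeds Z) ⊔ ⟨C₂, hC₂⟩) = ⊤ := by
        apply SetLike.coe_injective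
        exact Set.eq_univ_of_univ_subset hu
      rw [e1, e2, Scheme.IdealSheafData.vanishingIdeal_top, Scheme.nilradical_eq_bot]
    have hpatch := H955.UnionPatch.isPatch_union I J hIJ
    have hgen2 : GenM2 @IsAffineHom I.subschemeι (rfl : I.subschemeι ≫ gZ = I.subschemeι ≫ gZ) J.subschemeι rfl :=
      genM2_sq allR rfl rfl (IsPullback.of_hasPullback I.subschemeι J.subschemeι)
        (by rw [Scheme.IdealSheafData.ker_subschemeι]; exact hpatch) (Or.inl inferInstance)
    refine genM_qc_of_two (GenM2.mono hgen2 affine_le_qc) (f' := pullback.snd f I.subschemeι) (hf' := rfl)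
      (use_ih ih hi h I.subschemeι ?_ _ rfl rfl) (fW := pullback.snd f J.subschemeι)
      (hW := rfl) (use_ih ih hi h J.subschemeι ?_ _ rfl rfl) (allR p) (pullback.fst f I.subschemeι)
      pullback.condition (pullback.fst f J.subschemeι) pullback.condition
    · rw [Scheme.IdealSheafData.range_subschemeι, hI]
      exact fun he => hn₁ he.ge
    · rw [Scheme.IdealSheafData.range_subschemeι, hJ]
      exact fun he => hn₂ he.ge

lemma surjective_nilradical (X : Scheme.{u}) : Surjective X.nilradical.subschemeι := by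
  refine ⟨Set.range_eq_univ.mp ?_⟩
  rw [Scheme.IdealSheafData.range_subschemeι, Scheme.support_nilradical]
  rfl

theorem step (ih : ∀ D < C, PP g D) : PP g C := by
  intro Z i _ hi gZ h X f _ _ p hf
  have pZ : IsProper gZ := by rw [← h]; infer_instance
  have pX : IsProper p := by rw [← hf]; infer_instance
  let N := Z.nilradical
  have hred : IsReduced N.subscheme := Ega1.ReducedSub.isReduced_subscheme_radical _
  have hsur : Surjective N.subschemeι := surjective_nilradical Z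
  have hrange : Set.range (N.subschemeι ≫ i) = (C : Set Y₀) := by
    rw [Scheme.Hom.comp_base, TopCat.coe_comp, Set.range_comp, hsur.surj.range_eq, Set.image_univ, hi]
  let v := pullback.fst f N.subschemeι
  let f₀ := pullback.snd f N.subschemeι
  have hf₀ : f₀ ≫ (N.subschemeι ≫ gZ) = v ≫ p := by
    rw [← hf, ← Category.assoc v, pullback.condition, Category.assoc]
  have h0 : GenM @QuasiCompact f₀ hf₀ :=
    step_reduced ih (N.subschemeι ≫ i) hrange (by rw [Category.assoc, h]) f₀ hf₀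
  have h1 : GenM @QuasiCompact N.subschemeι (rfl : N.subschemeι ≫ gZ = N.subschemeι ≫ gZ) :=
    (genM_nil (f := N.subschemeι) (g := gZ) rfl).mono affine_le_qc
  have h2 : GenM @QuasiCompact (f₀ ≫ N.subschemeι) (show (f₀ ≫ N.subschemeι) ≫ gZ = v ≫ p by
      rw [Category.assoc, hf₀]) := GenM.comp rfl h1 h0
  refine GenM.cancel (Q' := @QuasiSeparated) (p := v) (s := f₀ ≫ N.subschemeι) pullback.condition h2 (allR p) rfl ?_
  intro X₁ Y₁ V t y h1 h2
  have := IsSeparated.of_comp t y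
  infer_instance

/-- **Quasi-compactness.** -/
theorem genM_qc {X Y S : Scheme.{u}} [IsNoetherian S] [IsIntegral S] {f : X ⟶ Y} {g : Y ⟶ S} {p : X ⟶ S}
    [IsProper g] [IsProper p] [Surjective f] (hf : f ≫ g = p) : GenM @QuasiCompact f hf := by
  have nY : IsLocallyNoetherian Y := LocallyOfFiniteType.isLocallyNoetherian g
  have cY : CompactSpace Y := QuasiCompact.compactSpace_of_compactSpace g
  have nY' : IsNoetherian Y := {}
  have pf : IsProper f := by
    have : IsProper (f ≫ g) := by rw [hf]; infer_instance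
    exact IsProper.of_comp f g
  have key : ∀ C : Closeds Y, PP g C := by
    intro C
    induction C using WellFoundedLT.induction with
    | ind C ih => exact step ih
  exact key ⊤ Y (𝟙 Y) (by simp) g (Category.id_comp g) X f p hf

end induction

end K60.QCInd
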