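import Groth.Agent.Pic13.K60.QAff
import Groth.Agent.Pic13.K60.KerQF
import Groth.Agent.S5681
import Groth.Agent.S2080

/-!
# Quasi-finiteness of `Pic_Y ⟶ Pic_X` for normal `Y`

`genM_lqf`: for a surjective `f : X ⟶ Y` of proper schemes over an integral Noetherian base, `Y` with geometrically normal
fibres, the morphism `Pic_Y ⟶ Pic_X` is quasi-finite over a nonempty open of the base.
-/

set_option autoImplicit false
universe u

open CategoryTheory MonoidalCategory CartesianMonoidalCategory MonObj GrpObj AlgebraicGeometry Limits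
open Groth.Agent.Ega3A.PicDiv Groth.Agent.Ega3A.PicEtSh Groth.Agent.Grpsch.PicGrp
open Groth.Agent.Ega3A.PicSheaf Groth.Agent.Ega3A.PicRep Groth.Agent.Picfga.PicBridge
open Groth.Agent Groth.Agent.Pic13 Groth.Agent.Pic13.H547 Groth.Agent.Pic13.H508.SqMT Groth.Agent.Pic13.H965
open K60.MGood K60.FlfQC K60.NilMain K60.KerQA K60.KerQF K60.QAff

namespace K60.QFin

theorem isNormalScheme_of_iso {Y Z : Scheme.{u}} (e : Y ⟶ Z) [IsIso e] (h : Pi1.IsNormalScheme Z) :
    Pi1.IsNormalScheme Y := by
  intro y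
  obtain ⟨h1, h2⟩ := h (e y)
  let r := (asIso (e.stalkMap y)).commRingCatIsoToRingEquiv
  have : IsDomain (Z.presheaf.stalk (e y)) := h1
  have h3 : IsDomain (Y.presheaf.stalk y) := r.symm.toMulEquiv.isDomain _
  exact ⟨h3, IsIntegrallyClosed.of_equiv r⟩

/-- Over an algebraically closed field the induced morphism is quasi-finite for normal `Y`. -/
theorem mGood_normal {k : Type u} [Field k] [IsAlgClosed k] {X Y : Scheme.{u}} {f : X ⟶ Y}
    {g : Y ⟶ Spec (CommRingCat.of k)} {p : X ⟶ Spec (CommRingCat.of k)} [IsProper g] [IsProper p] [Surjective f]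
    {hf : f ≫ g = p} (hN : Pi1.IsNormalScheme Y) (h₁ : RGood g) (h₂ : RGood p) :
    MGood @LocallyQuasiFinite f hf := by
  have hM : MGood @IsAffineHom f hf := mGood_field h₁ h₂
  obtain ⟨PY, φ, hY⟩ := h₁
  obtain ⟨PX, φ', hX⟩ := h₂
  obtain ⟨φY, hφY⟩ := representedBy_of_repPic _ hY.rep
  obtain ⟨φX, hφX⟩ := representedBy_of_repPic _ hX.rep
  have rY : Rp g PY (fun T c => φY T (ofPic c)) := ⟨Bridge.repPic_of_isRelPic hφY, hY.sep, hY.lft⟩
  have rX : Rp p PX (fun T c => φX T (ofPic c)) := ⟨Bridge.repPic_of_isRelPic hφX, hX.sep, hX.lft⟩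
  obtain ⟨m, hm₀⟩ := exists_res f hf rY.rep rX.rep
  have hm : IsInd f hf (fun T c => φY T (ofPic c)) (fun T c => φX T (ofPic c)) m := hm₀
  have hma : IsAffineHom m.left := hM.all rY.rep rX.rep hm
  refine ⟨PY, PX, _, _, rY, rX, m, hm, ?_⟩
  obtain ⟨gY, mulY, oneY, -⟩ := RelGrp.exists_grpObj hφY
  obtain ⟨gX, mulX, oneX, -⟩ := RelGrp.exists_grpObj hφX
  have hmon : IsMonHom m := RelGrp.isMonHom_of_natural hφY mulY mulX (fun T => pw f hf T) m (fun T c => (hm T c).symm)
  have sepX := hX.sep
  have sepY := hY.sep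
  have lftX := hX.lft
  have lftY := hY.lft
  have hlft : LocallyOfFiniteType m.left := by
    have : LocallyOfFiniteType (m.left ≫ PX.hom) := by rw [Over.w]; infer_instance
    exact locallyOfFiniteType_of_comp m.left PX.hom
  -- the kernel
  let K := Sga3B.KerGrp.kerObj m
  let i : K ⟶ PY := Sga3B.KerGrp.kerι m
  have hk : AlgGrp.IsKernel i m := Sga3B.KerGrp.isPullback_ker m
  obtain ⟨gK, hi⟩ := Sga3B.KerGrp.exists_grpObj m
  have sq := isPullback_left hk
  have k1 : LocallyOfFiniteType K.hom := MorphismProperty.of_isPullback sq hlft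
  have k2 : IsAffineHom K.hom := MorphismProperty.of_isPullback sq hma
  let pt : Spec (CommRingCat.of k) := IsLocalRing.closedPoint k
  have hcl : IsClosedImmersion (η[PX] : 𝟙_ (Over (Spec (CommRingCat.of k))) ⟶ PX).left := by
    have e1 : (η[PX] : 𝟙_ (Over (Spec (CommRingCat.of k))) ⟶ PX).left ≫ PX.hom = 𝟙 _ := Over.w (η[PX])
    have e2 : IsClosedImmersion ((η[PX] : 𝟙_ (Over (Spec (CommRingCat.of k))) ⟶ PX).left ≫ PX.hom) := by
      rw [e1]
      infer_instance
    exact IsClosedImmersion.of_comp _ PX.hom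
  have hicl : IsClosedImmersion i.left := MorphismProperty.of_isPullback sq.flip hcl
  -- the identity component
  obtain ⟨U, hU, hUp⟩ := S5681.result k Y g (by
    intro k' _ _ _
    have hb : Function.Bijective (algebraMap k k') := IsAlgClosed.algebraMap_bijective_of_isIntegral
    have h1 : IsIso (CommRingCat.ofHom (algebraMap k k')) := by
      rw [ConcreteCategory.isIso_iff_bijective]
      exact hb
    have h2 : IsIso (Spec.map (CommRingCat.ofHom (algebraMap k k'))) := inferInstance
    have h3 : IsIso (pullback.fst g (Spec.map (CommRingCat.ofHom (algebraMap k k')))) := inferInstance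
    exact isNormalScheme_of_iso (pullback.fst g _) hN) PY φY hφY pt
  have hUcl : IsClosedImmersion U.ι := by
    have h1 : IsProper U.ι := IsProper.of_comp U.ι PY.hom
    exact (IsClosedImmersion.iff_isProper_and_mono _).2 ⟨h1, inferInstance⟩
  let e₀ : PY.left := (η[PY] : 𝟙_ (Over (Spec (CommRingCat.of k))) ⟶ PY).left pt
  have he₀ : e₀ ∈ U := by
    have h1 : (φY (Over.mk (𝟙 _)) (PicF.cl (Coh.structureModule _))).left pt = e₀ := by
      have h2 : φY (Over.mk (𝟙 _)) (PicF.cl (Coh.structureModule _)) = (1 : Over.mk (𝟙 _) ⟶ PY) :=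
        oneY (Over.mk (𝟙 (Spec (CommRingCat.of k))))
      rw [h2, Hom.one_def, Over.comp_left, Scheme.Hom.comp_apply]
      congr 1
    rw [← SetLike.mem_coe, hU, ← h1]
    exact mem_connectedComponent
  -- the intersection of the kernel with the identity component is finite
  let V := pullback i.left U.ι
  have v1 : IsAffineHom (pullback.fst i.left U.ι ≫ K.hom) := inferInstance
  have v2 : IsProper (pullback.snd i.left U.ι ≫ U.ι ≫ PY.hom) := inferInstance
  have v3 : pullback.snd i.left U.ι ≫ U.ι ≫ PY.hom = pullback.fst i.left U.ι ≫ K.hom := by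
    rw [← Over.w i, ← Category.assoc, ← pullback.condition, Category.assoc]
  have v4 : IsFinite (pullback.fst i.left U.ι ≫ K.hom) :=
    IsFinite.iff_isProper_and_isAffineHom.2 ⟨v3 ▸ v2, v1⟩
  have hopen : IsOpen {(η[K] : 𝟙_ (Over (Spec (CommRingCat.of k))) ⟶ K).left pt} := by
    have h1 : i.left ((η[K] : 𝟙_ (Over (Spec (CommRingCat.of k))) ⟶ K).left pt) = e₀ := by
      have h2 : (η[K] : 𝟙_ (Over (Spec (CommRingCat.of k))) ⟶ K) ≫ i = η[PY] := IsMonHom.one_hom i
      have h3 := congrArg (fun z => z.left) h2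
      rw [Over.comp_left] at h3
      rw [← Scheme.Hom.comp_apply]
      exact congr(($h3) pt)
    obtain ⟨v, hv, -⟩ := Scheme.Pullback.exists_preimage_pullback (f := i.left) (g := U.ι)
      ((η[K] : 𝟙_ (Over (Spec (CommRingCat.of k))) ⟶ K).left pt) ⟨e₀, he₀⟩ h1
    have hd : DiscreteTopology (pullback i.left U.ι : Scheme.{u}) := by
      have h4 := (pullback.fst i.left U.ι ≫ K.hom).isDiscrete_preimage_singleton pt
      have h5 : (pullback.fst i.left U.ι ≫ K.hom) ⁻¹' {pt} = Set.univ := by
        ext z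
        simp only [Set.mem_univ, iff_true]
        exact Subsingleton.elim _ _
      rw [h5] at h4
      exact isDiscrete_univ_iff.1 h4
    have h6 := (pullback.fst i.left U.ι).isOpenEmbedding.isOpenMap _ (isOpen_discrete {v})
    rwa [Set.image_singleton, hv] at h6
  have hKq : LocallyQuasiFinite K.hom := lqf_of_isOpen_unit K pt hopen
  exact lqf_of_ker m hk hKq

/-- Quasi-finiteness after shrinking, from quasi-compactness. -/
theorem genM_lqf_aux {X Y S : Scheme.{u}} [IsAffine S] [IsNoetherian S] [IsIntegral S] {f : X ⟶ Y} {g : Y ⟶ S}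
    {p : X ⟶ S} [IsProper g] [IsProper p] [Surjective f] {hf : f ≫ g = p} (hM : MGood @QuasiCompact f hf)
    (hN : ∀ (Ω : Type u) [Field Ω] [IsAlgClosed Ω] (σ : Spec (CommRingCat.of Ω) ⟶ S),
      Pi1.IsNormalScheme (pullback g σ)) :
    GenM @LocallyQuasiFinite f hf := by
  obtain ⟨PY, φ, hY⟩ := hM.left
  obtain ⟨PX, φ', hX⟩ := hM.right
  obtain ⟨φY, hφY⟩ := representedBy_of_repPic _ hY.rep
  obtain ⟨φX, hφX⟩ := representedBy_of_repPic _ hX.rep
  have rY : Rp g PY (fun T c => φY T (ofPic c)) := ⟨Bridge.repPic_of_isRelPic hφY, hY.sep, hY.lft⟩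
  have rX : Rp p PX (fun T c => φX T (ofPic c)) := ⟨Bridge.repPic_of_isRelPic hφX, hX.sep, hX.lft⟩
  obtain ⟨m, hm₀⟩ := exists_res f hf rY.rep rX.rep
  have hm : IsInd f hf (fun T c => φY T (ofPic c)) (fun T c => φX T (ofPic c)) m := hm₀
  have hqc : QuasiCompact m.left := hM.all rY.rep rX.rep hm
  obtain ⟨gY, mulY, oneY, -⟩ := RelGrp.exists_grpObj hφY
  obtain ⟨gX, mulX, oneX, -⟩ := RelGrp.exists_grpObj hφX
  have hmon : IsMonHom m := RelGrp.isMonHom_of_natural hφY mulY mulX (fun T => pw f hf T) m (fun T c => (hm T c).symm)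
  have sepX := hX.sep
  have sepY := hY.sep
  have lftX := hX.lft
  have lftY := hY.lft
  have hlft : LocallyOfFiniteType m.left := by
    have : LocallyOfFiniteType (m.left ≫ PX.hom) := by rw [Over.w]; infer_instance
    exact locallyOfFiniteType_of_comp m.left PX.hom
  have hsep : IsSeparated m.left := by
    have : IsSeparated (m.left ≫ PX.hom) := by rw [Over.w]; infer_instance
    exact IsSeparated.of_comp m.left PX.hom
  let K : Over S := pullback m η[PX]
  let i : K ⟶ PY := pullback.fst m η[PX]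
  have hk : AlgGrp.IsKernel i m := isKernel_pullback m
  have sq := isPullback_left hk
  have k1 : LocallyOfFiniteType K.hom := MorphismProperty.of_isPullback sq hlft
  have k2 : QuasiCompact K.hom := MorphismProperty.of_isPullback sq hqc
  have k3 : IsSeparated K.hom := MorphismProperty.of_isPullback sq hsep
  -- the geometric generic fibre
  let F : Type u := S.residueField (genericPoint S)
  let Ω : Type u := AlgebraicClosure F
  let a : Spec (CommRingCat.of Ω) ⟶ S :=
    Spec.map (CommRingCat.ofHom (algebraMap F Ω)) ≫ S.fromSpecResidueField (genericPoint S)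
  have ha : ∀ t, a t = genericPoint S := by
    intro t
    change (Spec.map (CommRingCat.ofHom (algebraMap F Ω)) ≫ S.fromSpecResidueField (genericPoint S)) t = _
    rw [Scheme.Hom.comp_apply]
    exact Scheme.fromSpecResidueField_apply _ _
  have hKa : LocallyQuasiFinite (pullback.snd K.hom a) := by
    have s1 : Surjective (mT f hf (Over.mk a)) :=
      MorphismProperty.of_isPullback (isPullback_mT f hf (Over.mk a)).flip inferInstance
    have s2 : IsProper (pullback.snd g (Over.mk a).hom) := inferInstance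
    have s3 : IsProper (pullback.snd p (Over.mk a).hom) := inferInstance
    have hg : IsPullback (pullback.fst g a) (pullback.snd g a) g a := IsPullback.of_hasPullback g a
    have hp : IsPullback (pullback.fst p a) (pullback.snd p a) p a := IsPullback.of_hasPullback p a
    have h1 : MGood @LocallyQuasiFinite (mT f hf (Over.mk a)) (mT_snd f hf (Over.mk a)) :=
      mGood_normal (k := Ω) (hN Ω a) (hM.left.of_isPullback hg) (hM.right.of_isPullback hp)
    have h2 : LocallyQuasiFinite ((Over.pullback a).map m).left :=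
      h1.all (rY.bc hg).rep (rX.bc hp).rep (hm.bc hp hg (mT_fst f hf (Over.mk a)))
    exact MorphismProperty.of_isPullback (isPullback_left (isKernel_bc a hk)) h2
  have hfin : (K.hom ⁻¹' {genericPoint S}).Finite := by
    let t₀ : Spec (CommRingCat.of Ω) := IsLocalRing.closedPoint Ω
    refine (((pullback.snd K.hom a).finite_preimage_singleton t₀).image (pullback.fst K.hom a)).subset ?_
    intro x hx
    have hx' : K.hom x = genericPoint S := hx
    obtain ⟨w, hw₁, hw₂⟩ := Scheme.Pullback.exists_preimage_pullback (f := K.hom) (g := a) x t₀ (by rw [hx', ha])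
    exact ⟨w, hw₂, hw₁⟩
  have hgen : closure {genericPoint S} ∈ irreducibleComponents S := by
    rw [(genericPoint_spec S).def, irreducibleComponents_eq_singleton]
    rfl
  obtain ⟨W, hWa, hW, hWf⟩ := (S2080.result K.hom (genericPoint S) hgen).1 hfin
  refine ⟨W, ⟨_, hW⟩, ?_⟩
  have f1 : IsFinite (pullback.snd K.hom W.ι) := by
    have ee : K.hom ∣_ W = (pullbackRestrictIsoRestrict K.hom W).inv ≫ pullback.snd K.hom W.ι := rfl
    rw [ee, MorphismProperty.cancel_left_of_respectsIso @IsFinite] at hWf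
    exact hWf
  have f2 : LocallyQuasiFinite (pullback.snd K.hom W.ι) := inferInstance
  have hg : IsPullback (pullback.fst g W.ι) (pullback.snd g W.ι) g W.ι := IsPullback.of_hasPullback g W.ι
  have hp : IsPullback (pullback.fst p W.ι) (pullback.snd p W.ι) p W.ι := IsPullback.of_hasPullback p W.ι
  refine ⟨_, _, _, _, rY.bc hg, rX.bc hp, _, hm.bc hp hg (mT_fst f hf (Over.mk W.ι)), ?_⟩
  have l4 : IsMonHom (M := Red.bc W.ι PY) (N := Red.bc W.ι PX) ((Over.pullback W.ι).map m) := inferInstance
  have l5 : QuasiCompact ((Over.pullback W.ι).map m).left :=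
    MorphismProperty.of_isPullback (isPullback_bc_map W.ι m).flip hqc
  have l6 : LocallyOfFiniteType ((Over.pullback W.ι).map m).left :=
    MorphismProperty.of_isPullback (isPullback_bc_map W.ι m).flip hlft
  exact lqf_of_ker (G := Red.bc W.ι PY) (H := Red.bc W.ι PX) ((Over.pullback W.ι).map m)
    (isKernel_bc W.ι hk) f2

/-- **Quasi-finiteness.** -/
theorem genM_lqf {X Y S : Scheme.{u}} [IsNoetherian S] [IsIntegral S] {f : X ⟶ Y} {g : Y ⟶ S} {p : X ⟶ S}
    [IsProper g] [IsProper p] [Surjective f] (hf : f ≫ g = p)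
    (hN : ∀ (Ω : Type u) [Field Ω] [IsAlgClosed Ω] (σ : Spec (CommRingCat.of Ω) ⟶ S),
      Pi1.IsNormalScheme (pullback g σ)) : GenM @LocallyQuasiFinite f hf := by
  obtain ⟨V₀, hV₀, hM⟩ := (QCInd.genM_qc hf).exists_le
  obtain ⟨V, ⟨x, hx⟩, hle, hV⟩ := exists_affine_le (S := S) (V := V₀) hV₀
  have a1 : IsAffine V.toScheme := hV
  have a2 : Nonempty V.toScheme := ⟨⟨x, hx⟩⟩
  have a3 : IsIntegral V.toScheme := inferInstance
  have a4 : IsNoetherian V.toScheme := {}
  let T : Over S := Over.mk V.ι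
  have b2 : Surjective (mT f hf T) := MorphismProperty.of_isPullback (isPullback_mT f hf T).flip inferInstance
  have key : GenM @LocallyQuasiFinite (mT f hf T) (mT_snd f hf T) :=
    genM_lqf_aux (S := V.toScheme) (f := mT f hf T) (g := pullback.snd g V.ι) (hM V hle) (by
      intro Ω _ _ σ
      have h1 := hN Ω (σ ≫ V.ι)
      exact isNormalScheme_of_iso (pullbackLeftPullbackSndIso g V.ι σ).hom h1)
  exact GenM.of_open (t₁ := V.ι) key (IsPullback.of_hasPullback p V.ι) (IsPullback.of_hasPullback g V.ι)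
    (mT_fst f hf T)

/-- The conjunction of two properties. -/
theorem genM_inf {Q Q' : MorphismProperty Scheme.{u}} [Q.IsStableUnderBaseChange] [Q'.IsStableUnderBaseChange]
    {X Y S : Scheme.{u}} [IrreducibleSpace S] {f : X ⟶ Y} {g : Y ⟶ S} {p : X ⟶ S} {hf : f ≫ g = p}
    (h : GenM Q f hf) (h' : GenM Q' f hf) : GenM (Q ⊓ Q') f hf := by
  have r1 : Q.RespectsIso := MorphismProperty.IsStableUnderBaseChange.respectsIso
  have r2 : Q'.RespectsIso := MorphismProperty.IsStableUnderBaseChange.respectsIso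
  obtain ⟨V, hV, h⟩ := h.exists_le
  obtain ⟨V', hV', h'⟩ := h'.exists_le
  refine ⟨V ⊓ V', exists_inter hV hV', ?_⟩
  obtain ⟨P, P', φ, φ', hP, hP', r, hr, hQ⟩ := h _ inf_le_left
  exact ⟨P, P', φ, φ', hP, hP', r, hr, hQ, (h' _ inf_le_right).all hP.rep hP'.rep hr⟩

end K60.QFin
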