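import Groth.Agent.Pic13.K60.GenM

/-!
# Two morphisms of Picard schemes

`MGood2 Q q₁ h₁ q₂ h₂`: the morphism `Pic_B ⟶ Pic_{A₁} × Pic_{A₂}` has the property `Q`.
-/

set_option autoImplicit false
universe w u

open CategoryTheory CategoryTheory.Limits AlgebraicGeometry Opposite MonoidalCategory CartesianMonoidalCategory
open Groth.Agent.Ega3A.PicDiv Groth.Agent.Ega3A.PicEtSh Groth.Agent.Grpsch.PicGrp
open Groth.Agent.Ega3A.PicSheaf Groth.Agent.Ega3A.PicRep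
open Groth.Agent.Pic13.H547 Groth.Agent.Pic13.H508.SqMT
open Groth.Agent Groth.Agent.Sga3B.BcPts

namespace K60.MGood

section def2

variable (Q : MorphismProperty Scheme.{u}) {A₁ A₂ B S : Scheme.{u}} {f₁ : A₁ ⟶ S} {f₂ : A₂ ⟶ S} {f : B ⟶ S}
  (q₁ : A₁ ⟶ B) (h₁ : q₁ ≫ f = f₁) (q₂ : A₂ ⟶ B) (h₂ : q₂ ≫ f = f₂)

/-- `Pic_B ⟶ Pic_{A₁} × Pic_{A₂}` has the property `Q`. -/
def MGood2 : Prop :=
  ∃ (P P₁ P₂ : Over S) (φ : ∀ T : Over S, Pic (PicF.XT f T) → (T ⟶ P))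
    (φ₁ : ∀ T : Over S, Pic (PicF.XT f₁ T) → (T ⟶ P₁)) (φ₂ : ∀ T : Over S, Pic (PicF.XT f₂ T) → (T ⟶ P₂)),
    Rp f P φ ∧ Rp f₁ P₁ φ₁ ∧ Rp f₂ P₂ φ₂ ∧
    ∃ (r₁ : P ⟶ P₁) (r₂ : P ⟶ P₂), IsInd q₁ h₁ φ φ₁ r₁ ∧ IsInd q₂ h₂ φ φ₂ r₂ ∧ Q (lift r₁ r₂).left

/-- `MGood2` over a nonempty open of the base. -/
def GenM2 : Prop := ∃ V : S.Opens, (V : Set S).Nonempty ∧
  MGood2 Q (mT q₁ h₁ (Over.mk V.ι)) (mT_snd q₁ h₁ (Over.mk V.ι)) (mT q₂ h₂ (Over.mk V.ι))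
    (mT_snd q₂ h₂ (Over.mk V.ι))

end def2

section bc

variable {Q : MorphismProperty Scheme.{u}} {A₁ A₂ B S : Scheme.{u}} {f₁ : A₁ ⟶ S} {f₂ : A₂ ⟶ S} {f : B ⟶ S}
  {q₁ : A₁ ⟶ B} {h₁ : q₁ ≫ f = f₁} {q₂ : A₂ ⟶ B} {h₂ : q₂ ≫ f = f₂}

/-- The pairing of base changes. -/
lemma lift_bc [Q.RespectsIso] [Q.IsStableUnderBaseChange] {S' : Scheme.{u}} (a : S' ⟶ S) {P P₁ P₂ : Over S}
    (r₁ : P ⟶ P₁) (r₂ : P ⟶ P₂) (h : Q (lift r₁ r₂).left) :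
    Q (lift ((Over.pullback a).map r₁) ((Over.pullback a).map r₂)).left := by
  have h1 : Q ((Over.pullback a).map (lift r₁ r₂)).left :=
    MorphismProperty.of_isPullback (isPullback_bc_map a (lift r₁ r₂)).flip h
  have h2 : lift ((Over.pullback a).map r₁) ((Over.pullback a).map r₂) =
      (Over.pullback a).map (lift r₁ r₂) ≫ CartesianMonoidalCategory.prodComparison (Over.pullback a) P₁ P₂ := by
    ext1
    · rw [lift_fst, Category.assoc, CartesianMonoidalCategory.prodComparison_fst, ← Functor.map_comp, lift_fst]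
    · rw [lift_snd, Category.assoc, CartesianMonoidalCategory.prodComparison_snd, ← Functor.map_comp, lift_snd]
  rw [h2, Over.comp_left]
  have h3 : IsIso (CartesianMonoidalCategory.prodComparison (Over.pullback a) P₁ P₂) := inferInstance
  have h4 : IsIso (CartesianMonoidalCategory.prodComparison (Over.pullback a) P₁ P₂).left :=
    (Over.forget S').map_isIso (CartesianMonoidalCategory.prodComparison (Over.pullback a) P₁ P₂)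
  rw [Q.cancel_right_of_respectsIso]
  exact h1

variable {A₁' A₂' B' S' : Scheme.{u}} {f₁' : A₁' ⟶ S'} {f₂' : A₂' ⟶ S'} {f' : B' ⟶ S'}
  {q₁' : A₁' ⟶ B'} {h₁' : q₁' ≫ f' = f₁'} {q₂' : A₂' ⟶ B'} {h₂' : q₂' ≫ f' = f₂'}
  {v₁ : A₁' ⟶ A₁} {v₂ : A₂' ⟶ A₂} {v : B' ⟶ B} {a : S' ⟶ S}

/-- Base change of `MGood2`. -/
theorem MGood2.of_isPullback [Q.IsStableUnderBaseChange] (hM : MGood2 Q q₁ h₁ q₂ h₂) (H : IsPullback v f' f a)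
    (H₁ : IsPullback v₁ f₁' f₁ a) (H₂ : IsPullback v₂ f₂' f₂ a) (hq₁ : q₁' ≫ v = v₁ ≫ q₁)
    (hq₂ : q₂' ≫ v = v₂ ≫ q₂) : MGood2 Q q₁' h₁' q₂' h₂' := by
  have : Q.RespectsIso := MorphismProperty.IsStableUnderBaseChange.respectsIso
  obtain ⟨P, P₁, P₂, φ, φ₁, φ₂, hP, hP₁, hP₂, r₁, r₂, hr₁, hr₂, hQ⟩ := hM
  exact ⟨_, _, _, _, _, _, hP.bc H, hP₁.bc H₁, hP₂.bc H₂, _, _, hr₁.bc H₁ H hq₁, hr₂.bc H₂ H hq₂,
    lift_bc a r₁ r₂ hQ⟩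

end bc

section trans

variable {Q : MorphismProperty Scheme.{u}} {A B C S A₁ B₁ C₁ T₁ A₂ B₂ C₂ T₂ : Scheme.{u}} {fA : A ⟶ S} {fC : C ⟶ S}
  {f : B ⟶ S} {q : A ⟶ B} {h : q ≫ f = fA} {r : C ⟶ B} {k : r ≫ f = fC}
  {fA₁ : A₁ ⟶ T₁} {fC₁ : C₁ ⟶ T₁} {f₁ : B₁ ⟶ T₁} {q₁ : A₁ ⟶ B₁} {h₁ : q₁ ≫ f₁ = fA₁} {r₁ : C₁ ⟶ B₁}
  {k₁ : r₁ ≫ f₁ = fC₁} {vA₁ : A₁ ⟶ A} {vB₁ : B₁ ⟶ B} {vC₁ : C₁ ⟶ C} {t₁ : T₁ ⟶ S}
  {fA₂ : A₂ ⟶ T₂} {fC₂ : C₂ ⟶ T₂} {f₂ : B₂ ⟶ T₂} {q₂ : A₂ ⟶ B₂} {h₂ : q₂ ≫ f₂ = fA₂} {r₂ : C₂ ⟶ B₂}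
  {k₂ : r₂ ≫ f₂ = fC₂} {vA₂ : A₂ ⟶ A} {vB₂ : B₂ ⟶ B} {vC₂ : C₂ ⟶ C} {t₂ : T₂ ⟶ S}

/-- Transitivity of base change for `MGood2`. -/
theorem MGood2.trans [Q.IsStableUnderBaseChange] (hM : MGood2 Q q₁ h₁ r₁ k₁)
    (HA₁ : IsPullback vA₁ fA₁ fA t₁) (HC₁ : IsPullback vC₁ fC₁ fC t₁) (H₁ : IsPullback vB₁ f₁ f t₁)
    (hq₁ : q₁ ≫ vB₁ = vA₁ ≫ q) (hr₁ : r₁ ≫ vB₁ = vC₁ ≫ r)
    (HA₂ : IsPullback vA₂ fA₂ fA t₂) (HC₂ : IsPullback vC₂ fC₂ fC t₂) (H₂ : IsPullback vB₂ f₂ f t₂)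
    (hq₂ : q₂ ≫ vB₂ = vA₂ ≫ q) (hr₂ : r₂ ≫ vB₂ = vC₂ ≫ r)
    (a : T₂ ⟶ T₁) (ha : a ≫ t₁ = t₂) : MGood2 Q q₂ h₂ r₂ k₂ := by
  obtain ⟨v, hv, hv'⟩ := isPullback_lift H₁ H₂ a ha
  obtain ⟨u, hu, hu'⟩ := isPullback_lift HA₁ HA₂ a ha
  obtain ⟨s, hs, hs'⟩ := isPullback_lift HC₁ HC₂ a ha
  refine hM.of_isPullback hv hu hs (H₁.hom_ext ?_ ?_) (H₁.hom_ext ?_ ?_)
  · rw [Category.assoc, hv', hq₂, Category.assoc, hq₁, ← Category.assoc, hu']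
  · rw [Category.assoc, Category.assoc, hv.w, h₁, ← Category.assoc, h₂, hu.w]
  · rw [Category.assoc, hv', hr₂, Category.assoc, hr₁, ← Category.assoc, hs']
  · rw [Category.assoc, Category.assoc, hv.w, k₁, ← Category.assoc, k₂, hs.w]

theorem MGood2.bcOver [Q.IsStableUnderBaseChange] {T T' : Over S} (g : T' ⟶ T)
    (hM : MGood2 Q (mT q h T) (mT_snd q h T) (mT r k T) (mT_snd r k T)) :
    MGood2 Q (mT q h T') (mT_snd q h T') (mT r k T') (mT_snd r k T') :=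
  hM.trans (IsPullback.of_hasPullback fA T.hom) (IsPullback.of_hasPullback fC T.hom)
    (IsPullback.of_hasPullback f T.hom) (mT_fst q h T) (mT_fst r k T)
    (IsPullback.of_hasPullback fA T'.hom) (IsPullback.of_hasPullback fC T'.hom)
    (IsPullback.of_hasPullback f T'.hom) (mT_fst q h T') (mT_fst r k T') g.left (Over.w g)

theorem GenM2.exists_le [Q.IsStableUnderBaseChange] (hM : GenM2 Q q h r k) : ∃ V : S.Opens, (V : Set S).Nonempty ∧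
    ∀ W : S.Opens, W ≤ V → MGood2 Q (mT q h (Over.mk W.ι)) (mT_snd q h (Over.mk W.ι)) (mT r k (Over.mk W.ι))
      (mT_snd r k (Over.mk W.ι)) := by
  obtain ⟨V, hV, hM⟩ := hM
  exact ⟨V, hV, fun W hW => hM.bcOver (leHom hW)⟩

theorem GenM2.of_mGood [Q.IsStableUnderBaseChange] [IsOpenImmersion t₁] [Nonempty T₁]
    (hM : MGood2 Q q₁ h₁ r₁ k₁)
    (HA₁ : IsPullback vA₁ fA₁ fA t₁) (HC₁ : IsPullback vC₁ fC₁ fC t₁) (H₁ : IsPullback vB₁ f₁ f t₁)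
    (hq₁ : q₁ ≫ vB₁ = vA₁ ≫ q) (hr₁ : r₁ ≫ vB₁ = vC₁ ≫ r) : GenM2 Q q h r k := by
  refine ⟨t₁.opensRange, ⟨t₁ (Classical.arbitrary T₁), ⟨_, rfl⟩⟩, ?_⟩
  refine hM.trans HA₁ HC₁ H₁ hq₁ hr₁ (IsPullback.of_hasPullback fA _) (IsPullback.of_hasPullback fC _)
    (IsPullback.of_hasPullback f _) (mT_fst q h _) (mT_fst r k _) t₁.isoOpensRange.inv ?_
  exact Scheme.Hom.isoOpensRange_inv_comp t₁

/-- `GenM2` over an open of the base. -/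
theorem GenM2.of_open [Q.IsStableUnderBaseChange] [IsOpenImmersion t₁] (hM : GenM2 Q q₁ h₁ r₁ k₁)
    (HA₁ : IsPullback vA₁ fA₁ fA t₁) (HC₁ : IsPullback vC₁ fC₁ fC t₁) (H₁ : IsPullback vB₁ f₁ f t₁)
    (hq₁ : q₁ ≫ vB₁ = vA₁ ≫ q) (hr₁ : r₁ ≫ vB₁ = vC₁ ≫ r) : GenM2 Q q h r k := by
  obtain ⟨V, ⟨x, hx⟩, hM⟩ := hM
  have : Nonempty (Over.mk V.ι : Over T₁).left := ⟨⟨x, hx⟩⟩
  have i1 : IsOpenImmersion (Over.mk V.ι : Over T₁).hom := inferInstanceAs (IsOpenImmersion V.ι)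
  refine GenM2.of_mGood (t₁ := (Over.mk V.ι : Over T₁).hom ≫ t₁) hM
    ((IsPullback.of_hasPullback fA₁ _).paste_horiz HA₁) ((IsPullback.of_hasPullback fC₁ _).paste_horiz HC₁)
    ((IsPullback.of_hasPullback f₁ _).paste_horiz H₁) ?_ ?_
  · rw [← Category.assoc, mT_fst, Category.assoc, hq₁, Category.assoc]
  · rw [← Category.assoc, mT_fst, Category.assoc, hr₁, Category.assoc]

end trans

section assemble

variable {S : Scheme.{u}}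

/-- Quasi-compactness of a product of quasi-compact morphisms. -/
lemma quasiCompact_tensor {A A' B B' : Over S} (s : A ⟶ A') (t : B ⟶ B') (hs : QuasiCompact s.left)
    (ht : QuasiCompact t.left) : QuasiCompact (s ⊗ₘ t).left := by
  have h1 : IsPullback (s ▷ B) (fst A B) (fst A' B) s := by
    refine ⟨⟨whiskerRight_fst _ _⟩, ⟨PullbackCone.IsLimit.mk _ (fun c => lift c.snd (c.fst ≫ snd _ _)) ?_ ?_ ?_⟩⟩
    · intro c
      ext1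
      · rw [Category.assoc, whiskerRight_fst, lift_fst_assoc, ← c.condition]
      · rw [Category.assoc, whiskerRight_snd, lift_snd]
    · intro c
      rw [lift_fst]
    · intro c m hm1 hm2
      ext1
      · rw [hm2, lift_fst]
      · rw [lift_snd, ← hm1, Category.assoc, whiskerRight_snd]
  have h2 : IsPullback (A' ◁ t) (snd A' B) (snd A' B') t := by
    refine ⟨⟨whiskerLeft_snd _ _⟩, ⟨PullbackCone.IsLimit.mk _ (fun c => lift (c.fst ≫ fst _ _) c.snd) ?_ ?_ ?_⟩⟩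
    · intro c
      ext1
      · rw [Category.assoc, whiskerLeft_fst, lift_fst]
      · rw [Category.assoc, whiskerLeft_snd, lift_snd_assoc, ← c.condition]
    · intro c
      rw [lift_snd]
    · intro c m hm1 hm2
      ext1
      · rw [lift_fst, ← hm1, Category.assoc, whiskerLeft_fst]
      · rw [hm2, lift_snd]
  have h3 : QuasiCompact (s ▷ B).left := MorphismProperty.of_isPullback (h1.map (Over.forget S)).flip hs
  have h4 : QuasiCompact (A' ◁ t).left := MorphismProperty.of_isPullback (h2.map (Over.forget S)).flip ht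
  rw [tensorHom_def, Over.comp_left]
  infer_instance

variable {Y X Y' Z X' W : Scheme.{u}} {g : Y ⟶ S} {p : X ⟶ S} {g' : Y' ⟶ S} {gZ : Z ⟶ S} {p' : X' ⟶ S}
  {pW : W ⟶ S} {f : X ⟶ Y} {hf : f ≫ g = p} {b : Y' ⟶ Y} {hb : b ≫ g = g'} {i : Z ⟶ Y} {hi : i ≫ g = gZ}
  {f' : X' ⟶ Y'} {hf' : f' ≫ g' = p'} {fW : W ⟶ Z} {hW : fW ≫ gZ = pW}

/-- Quasi-compactness from the two parts of a patching square. -/
theorem qc_of_two (h2 : MGood2 @QuasiCompact b hb i hi) (h' : MGood @QuasiCompact f' hf')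
    (hZ : MGood @QuasiCompact fW hW) (hX : RGood p) (x' : X' ⟶ X) (hx' : x' ≫ f = f' ≫ b) (xW : W ⟶ X)
    (hxW : xW ≫ f = fW ≫ i) : MGood @QuasiCompact f hf := by
  obtain ⟨P, P₁, P₂, φ, φ₁, φ₂, hP, hP₁, hP₂, r₁, r₂, hr₁, hr₂, hQ⟩ := h2
  obtain ⟨PX, φX, hPX⟩ := hX
  obtain ⟨PX', φX', hPX'⟩ := h'.right
  obtain ⟨PW, φW, hPW⟩ := hZ.right
  obtain ⟨m, hm⟩ := exists_res f hf hP.rep hPX.rep
  obtain ⟨m', hm'⟩ := exists_res f' hf' hP₁.rep hPX'.rep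
  obtain ⟨mW, hmW⟩ := exists_res fW hW hP₂.rep hPW.rep
  have ex' : x' ≫ p = p' := by rw [← hf, ← Category.assoc, hx', Category.assoc, hb, hf']
  have exW : xW ≫ p = pW := by rw [← hf, ← Category.assoc, hxW, Category.assoc, hi, hW]
  obtain ⟨s₁, hs₁⟩ := exists_res x' ex' hPX.rep hPX'.rep
  obtain ⟨s₂, hs₂⟩ := exists_res xW exW hPX.rep hPW.rep
  have e1 : r₁ ≫ m' = m ≫ s₁ := by
    refine IsInd.eq (q := f' ≫ b) (h := by rw [Category.assoc, hb, hf']) hP.rep (IsInd.comp rfl hr₁ hm') ?_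
    exact IsInd.comp hx' hm hs₁
  have e2 : r₂ ≫ mW = m ≫ s₂ := by
    refine IsInd.eq (q := fW ≫ i) (h := by rw [Category.assoc, hi, hW]) hP.rep (IsInd.comp rfl hr₂ hmW) ?_
    exact IsInd.comp hxW hm hs₂
  have e : lift r₁ r₂ ≫ (m' ⊗ₘ mW) = m ≫ lift s₁ s₂ := by
    rw [lift_map, comp_lift, e1, e2]
  have q1 : QuasiCompact m'.left := h'.all hP₁.rep hPX'.rep hm'
  have q2 : QuasiCompact mW.left := hZ.all hP₂.rep hPW.rep hmW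
  have q3 : QuasiCompact (m' ⊗ₘ mW).left := quasiCompact_tensor m' mW q1 q2
  have q4 : QuasiCompact (lift r₁ r₂).left := hQ
  have q5 : QuasiCompact (m.left ≫ (lift s₁ s₂).left) := by
    rw [← Over.comp_left, ← e, Over.comp_left]
    infer_instance
  have q6 : IsSeparated ((lift s₁ s₂).left ≫ (PX' ⊗ PW).hom) := by
    rw [Over.w]
    exact hPX.sep
  have q7 : IsSeparated (lift s₁ s₂).left := IsSeparated.of_comp _ (PX' ⊗ PW).hom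
  exact ⟨P, PX, φ, φX, hP, hPX, m, hm, QuasiCompact.of_comp m.left (lift s₁ s₂).left⟩

end assemble

end K60.MGood
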